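import Cfsg.Agent.S0000
import Cfsg.Agent.OrdDiv.Table

/-!
# Known simple groups of order prime to 27 (helper435)

`not27`: the finite simple groups whose order is not divisible by 27.
`not45`: the finite simple groups whose order is divisible neither by 5 nor by 9.
-/

set_option autoImplicit false

namespace Cfsg.Agent.H435.Cases

open Cfsg

universe u

/-! ### arithmetic -/

theorem three_dvd {q : ℕ} (h : ¬ 3 ∣ q) (k : ℕ) : 3 ∣ q ^ (2 * k) - 1 := by
  have h1 : q ^ 2 ≡ 1 [MOD 3] := by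
    have : q % 3 = 1 ∨ q % 3 = 2 := by omega
    rcases this with h | h <;> simp [Nat.ModEq, Nat.pow_mod, h]
  have h2 : q ^ (2 * k) ≡ 1 [MOD 3] := by
    rw [pow_mul]
    simpa using h1.pow k
  have h3 : 1 ≤ q ^ (2 * k) := Nat.one_le_pow _ _ (by rcases Nat.eq_zero_or_pos q with h0 | h0; · simp [h0] at h
                                                      · exact h0)
  exact (Nat.modEq_iff_dvd' h3).1 h2.symm

theorem nine_dvd {q : ℕ} (h : ¬ 3 ∣ q) (k : ℕ) : 9 ∣ q ^ (6 * k) - 1 := by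
  have h1 : q ^ 6 ≡ 1 [MOD 9] := by
    have : q % 9 = 1 ∨ q % 9 = 2 ∨ q % 9 = 4 ∨ q % 9 = 5 ∨ q % 9 = 7 ∨ q % 9 = 8 := by omega
    rcases this with h | h | h | h | h | h <;> simp [Nat.ModEq, Nat.pow_mod, h]
  have h2 : q ^ (6 * k) ≡ 1 [MOD 9] := by
    rw [pow_mul]
    simpa using h1.pow k
  have h3 : 1 ≤ q ^ (6 * k) := Nat.one_le_pow _ _ (by rcases Nat.eq_zero_or_pos q with h0 | h0; · simp [h0] at h
                                                      · exact h0)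
  exact (Nat.modEq_iff_dvd' h3).1 h2.symm

theorem five_dvd {q : ℕ} (h : ¬ 5 ∣ q) (k : ℕ) : 5 ∣ q ^ (4 * k) - 1 := by
  have h1 : q ^ 4 ≡ 1 [MOD 5] := by
    have : q % 5 = 1 ∨ q % 5 = 2 ∨ q % 5 = 3 ∨ q % 5 = 4 := by omega
    rcases this with h | h | h | h <;> simp [Nat.ModEq, Nat.pow_mod, h]
  have h2 : q ^ (4 * k) ≡ 1 [MOD 5] := by
    rw [pow_mul]
    simpa using h1.pow k
  have h3 : 1 ≤ q ^ (4 * k) := Nat.one_le_pow _ _ (by rcases Nat.eq_zero_or_pos q with h0 | h0; · simp [h0] at h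
                                                      · exact h0)
  exact (Nat.modEq_iff_dvd' h3).1 h2.symm

theorem pow_dvd_prod {q : ℕ} (h : ¬ 3 ∣ q) (m : ℕ) :
    3 ^ m ∣ ∏ i ∈ Finset.range m, (q ^ (2 * (i + 1)) - 1) := by
  have h1 : (3 : ℕ) ^ m = ∏ _i ∈ Finset.range m, 3 := by rw [Finset.prod_const, Finset.card_range]
  rw [h1]
  exact Finset.prod_dvd_prod_of_dvd _ _ fun i _ => three_dvd h (i + 1)

/-- `27 ∣ q ^ a * ∏` as soon as `3 ≤ a` and `3 ≤ m` -/
theorem dvd27 {q a m : ℕ} (ha : 3 ≤ a) (hm : 3 ≤ m) :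
    27 ∣ q ^ a * ∏ i ∈ Finset.range m, (q ^ (2 * (i + 1)) - 1) := by
  by_cases h : 3 ∣ q
  · apply Dvd.dvd.mul_right
    exact (show (27 : ℕ) = 3 ^ 3 by norm_num) ▸ (pow_dvd_pow 3 ha).trans (pow_dvd_pow_of_dvd h a)
  · apply Dvd.dvd.mul_left
    exact (show (27 : ℕ) = 3 ^ 3 by norm_num) ▸ (pow_dvd_pow 3 hm).trans (pow_dvd_prod h m)

theorem dvd5 {q a m : ℕ} (ha : 1 ≤ a) (hm : 2 ≤ m) :
    5 ∣ q ^ a * ∏ i ∈ Finset.range m, (q ^ (2 * (i + 1)) - 1) := by
  by_cases h : 5 ∣ q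
  · apply Dvd.dvd.mul_right
    exact h.trans (dvd_pow_self q (by omega))
  · apply Dvd.dvd.mul_left
    have h1 := five_dvd h 1
    exact h1.trans (Finset.dvd_prod_of_mem (fun i => q ^ (2 * (i + 1)) - 1)
      (Finset.mem_range.2 (show 1 < m by omega)))

theorem cop_of_dvd_four {d : ℕ} (h : d ∣ 4) : Nat.Coprime 27 d ∧ Nat.Coprime 5 d := by
  constructor
  · exact Nat.Coprime.coprime_dvd_right h (by norm_num)
  · exact Nat.Coprime.coprime_dvd_right h (by norm_num)

theorem fact27 {n : ℕ} (hn : 9 ≤ n) {c : ℕ} (h : n.factorial = 2 * c) : 27 ∣ c := by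
  have h1 : (54 : ℕ) ∣ Nat.factorial 9 := by decide
  have h2 : Nat.factorial 9 ∣ n.factorial := Nat.factorial_dvd_factorial hn
  have h3 := h1.trans h2
  rw [h] at h3
  omega

theorem fact5 {n : ℕ} (hn : 5 ≤ n) {c : ℕ} (h : n.factorial = 2 * c) : 5 ∣ c := by
  have h1 : (10 : ℕ) ∣ Nat.factorial 5 := by decide
  have h2 : Nat.factorial 5 ∣ n.factorial := Nat.factorial_dvd_factorial hn
  have h3 := h1.trans h2
  rw [h] at h3
  omega

/-! ### orders of the families -/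

section

variable {F : Type} [Field F] [Fintype F]

theorem one_le : 1 ≤ Fintype.card F := Fintype.card_pos

theorem psp_card (m : ℕ) (hm : 1 ≤ m) : Nat.gcd 2 (Fintype.card F - 1) * Nat.card (PSp m F) =
    Fintype.card F ^ (m ^ 2) * ∏ i ∈ Finset.range m, (Fintype.card F ^ (2 * (i + 1)) - 1) := by
  have h1 := S0245.result (F := F) rfl m
  have h2 := S0246.result (F := F) rfl m hm
  have h3 := Subgroup.card_eq_card_quotient_mul_card_subgroup
    (Subgroup.center (Matrix.symplecticGroup (Fin m) F))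
  rw [h1, h2] at h3
  rw [h3, mul_comm]

theorem psp27 {m : ℕ} (hm : 3 ≤ m) : 27 ∣ Nat.card (PSp m F) := by
  have h := psp_card (F := F) m (by omega)
  have h1 := dvd27 (q := Fintype.card F) (a := m ^ 2) (m := m) (by nlinarith) hm
  rw [← h] at h1
  exact (cop_of_dvd_four ((Nat.gcd_dvd_left _ _).trans (by norm_num))).1.dvd_of_dvd_mul_left h1

theorem psp5 {m : ℕ} (hm : 2 ≤ m) : 5 ∣ Nat.card (PSp m F) := by
  have h := psp_card (F := F) m (by omega)
  have h1 := dvd5 (q := Fintype.card F) (a := m ^ 2) (m := m) (by nlinarith) hm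
  rw [← h] at h1
  exact (cop_of_dvd_four ((Nat.gcd_dvd_left _ _).trans (by norm_num))).2.dvd_of_dvd_mul_left h1

theorem oodd {m : ℕ} (hm : 3 ≤ m) (ho : Odd (Fintype.card F)) :
    27 ∣ Nat.card (POmega F (quadFormOdd m F)) ∧ 5 ∣ Nat.card (POmega F (quadFormOdd m F)) := by
  have h := S0292.result (F := F) rfl ho m hm
  constructor
  · have h1 := dvd27 (q := Fintype.card F) (a := m ^ 2) (m := m) (by nlinarith) hm
    rw [← h] at h1
    exact (cop_of_dvd_four (show 2 ∣ 4 by norm_num)).1.dvd_of_dvd_mul_left h1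
  · have h1 := dvd5 (q := Fintype.card F) (a := m ^ 2) (m := m) (by nlinarith) (by omega)
    rw [← h] at h1
    exact (cop_of_dvd_four (show 2 ∣ 4 by norm_num)).2.dvd_of_dvd_mul_left h1

theorem oplus {m : ℕ} (hm : 4 ≤ m) :
    27 ∣ Nat.card (POmega F (quadFormPlus m F)) ∧ 5 ∣ Nat.card (POmega F (quadFormPlus m F)) := by
  have h := S0293.result (F := F) rfl m hm
  have hm2 : 3 ≤ m * (m - 1) := (show 3 ≤ 4 * 3 by norm_num).trans (Nat.mul_le_mul hm (by omega))
  have he : Fintype.card F ^ (m * (m - 1)) * (Fintype.card F ^ m - 1) *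
      ∏ i ∈ Finset.range (m - 1), (Fintype.card F ^ (2 * (i + 1)) - 1) =
      (Fintype.card F ^ m - 1) * (Fintype.card F ^ (m * (m - 1)) *
      ∏ i ∈ Finset.range (m - 1), (Fintype.card F ^ (2 * (i + 1)) - 1)) := by ring
  rw [he] at h
  constructor
  · have h1 := (dvd27 (q := Fintype.card F) (a := m * (m - 1)) (m := m - 1) hm2 (by omega)).mul_left
      (Fintype.card F ^ m - 1)
    rw [← h] at h1
    exact (cop_of_dvd_four (Nat.gcd_dvd_left _ _)).1.dvd_of_dvd_mul_left h1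
  · have h1 := (dvd5 (q := Fintype.card F) (a := m * (m - 1)) (m := m - 1) (by omega) (by omega)).mul_left
      (Fintype.card F ^ m - 1)
    rw [← h] at h1
    exact (cop_of_dvd_four (Nat.gcd_dvd_left _ _)).2.dvd_of_dvd_mul_left h1

theorem ominus {m : ℕ} (hm : 4 ≤ m) {a b : F}
    (hab : ∀ z₁ z₂ : F, z₁ ^ 2 + a * z₁ * z₂ + b * z₂ ^ 2 = 0 → z₁ = 0 ∧ z₂ = 0) :
    27 ∣ Nat.card (POmega F (quadFormMinus (m - 1) F a b)) ∧
      5 ∣ Nat.card (POmega F (quadFormMinus (m - 1) F a b)) := by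
  have h := S0294.result (F := F) rfl m hm a b hab
  have hm2 : 3 ≤ m * (m - 1) := (show 3 ≤ 4 * 3 by norm_num).trans (Nat.mul_le_mul hm (by omega))
  have he : Fintype.card F ^ (m * (m - 1)) * (Fintype.card F ^ m + 1) *
      ∏ i ∈ Finset.range (m - 1), (Fintype.card F ^ (2 * (i + 1)) - 1) =
      (Fintype.card F ^ m + 1) * (Fintype.card F ^ (m * (m - 1)) *
      ∏ i ∈ Finset.range (m - 1), (Fintype.card F ^ (2 * (i + 1)) - 1)) := by ring
  rw [he] at h
  constructor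
  · have h1 := (dvd27 (q := Fintype.card F) (a := m * (m - 1)) (m := m - 1) hm2 (by omega)).mul_left
      (Fintype.card F ^ m + 1)
    rw [← h] at h1
    exact (cop_of_dvd_four (Nat.gcd_dvd_left _ _)).1.dvd_of_dvd_mul_left h1
  · have h1 := (dvd5 (q := Fintype.card F) (a := m * (m - 1)) (m := m - 1) (by omega) (by omega)).mul_left
      (Fintype.card F ^ m + 1)
    rw [← h] at h1
    exact (cop_of_dvd_four (Nat.gcd_dvd_left _ _)).2.dvd_of_dvd_mul_left h1

end

/-! ### orders of the exceptional families -/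

/-- `9 ∣ q ^ a * ((q ^ 2 - 1) * (q ^ 6 - 1))`, even `27`. -/
theorem exc27 {q a : ℕ} (ha : 3 ≤ a) : 27 ∣ q ^ a * ((q ^ 2 - 1) * (q ^ 6 - 1)) := by
  by_cases h : 3 ∣ q
  · apply Dvd.dvd.mul_right
    exact (show (27 : ℕ) = 3 ^ 3 by norm_num) ▸ (pow_dvd_pow 3 ha).trans (pow_dvd_pow_of_dvd h a)
  · apply Dvd.dvd.mul_left
    exact (show (27 : ℕ) = 3 * 9 by norm_num) ▸ mul_dvd_mul (three_dvd h 1) (nine_dvd h 1)

/-- with one more factor `3` -/
theorem exc81 {q a : ℕ} (ha : 4 ≤ a) : 81 ∣ q ^ a * ((q ^ 2 - 1) * (q ^ 6 - 1) * (q ^ 8 - 1)) := by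
  by_cases h : 3 ∣ q
  · apply Dvd.dvd.mul_right
    exact (show (81 : ℕ) = 3 ^ 4 by norm_num) ▸ (pow_dvd_pow 3 ha).trans (pow_dvd_pow_of_dvd h a)
  · apply Dvd.dvd.mul_left
    exact (show (81 : ℕ) = 3 * 9 * 3 by norm_num) ▸
      mul_dvd_mul (mul_dvd_mul (three_dvd h 1) (nine_dvd h 1)) (three_dvd h 4)

theorem of_gcd_three {d c : ℕ} (hd : d ∣ 3) (h : 81 ∣ d * c) : 27 ∣ c := by
  rcases (Nat.dvd_prime Nat.prime_three).1 hd with rfl | rfl
  · omega
  · omega

/-- the exceptional groups of Lie type other than the Suzuki groups have order divisible by 27 -/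
theorem exc {G : Type u} [Group G] (h : IsExceptionalLieType G) :
    27 ∣ Nat.card G ∨ Lie.IsoSuzuki G := by
  have T := OrdDiv.table.{u}
  rcases h with h | h | h | h | h | h | h | h | h | h | h
  · left
    obtain ⟨F, _, _, hq, ⟨e⟩⟩ := h
    rw [Nat.card_congr e.toEquiv, T.g2 F, mul_assoc]
    exact exc27 (by norm_num)
  · left
    obtain ⟨F, _, _, ⟨e⟩⟩ := h
    rw [Nat.card_congr e.toEquiv, T.f4 F _ rfl]
    have := (exc27 (q := Fintype.card F) (a := 24) (by norm_num)).mul_right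
      ((Fintype.card F ^ 8 - 1) * (Fintype.card F ^ 12 - 1))
    refine this.trans (dvd_of_eq ?_)
    ring
  · left
    obtain ⟨F, _, _, ⟨e⟩⟩ := h
    rw [Nat.card_congr e.toEquiv]
    refine of_gcd_three (Nat.gcd_dvd_left 3 (Fintype.card F - 1)) ?_
    rw [T.e6 F _ rfl]
    have := (exc81 (q := Fintype.card F) (a := 36) (by norm_num)).mul_right
      ((Fintype.card F ^ 5 - 1) * (Fintype.card F ^ 9 - 1) * (Fintype.card F ^ 12 - 1))
    refine this.trans (dvd_of_eq ?_)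
    ring
  · left
    obtain ⟨F, _, _, ⟨e⟩⟩ := h
    rw [Nat.card_congr e.toEquiv]
    refine (cop_of_dvd_four (d := Nat.gcd 2 (Fintype.card F - 1))
      ((Nat.gcd_dvd_left _ _).trans (by norm_num))).1.dvd_of_dvd_mul_left ?_
    rw [T.e7 F _ rfl]
    have := (exc27 (q := Fintype.card F) (a := 63) (by norm_num)).mul_right
      ((Fintype.card F ^ 8 - 1) * (Fintype.card F ^ 10 - 1) * (Fintype.card F ^ 12 - 1) *
        (Fintype.card F ^ 14 - 1) * (Fintype.card F ^ 18 - 1))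
    refine this.trans (dvd_of_eq ?_)
    ring
  · left
    obtain ⟨F, _, _, ⟨e⟩⟩ := h
    rw [Nat.card_congr e.toEquiv, T.e8 F _ rfl]
    by_cases h3 : 3 ∣ Fintype.card F
    · have h1 : 27 ∣ Fintype.card F ^ 120 :=
        (show (27 : ℕ) = 3 ^ 3 by norm_num) ▸ (pow_dvd_pow 3 (by norm_num)).trans (pow_dvd_pow_of_dvd h3 120)
      simp only [mul_assoc]
      exact h1.mul_right _
    · have h1 : 27 ∣ (Fintype.card F ^ 2 - 1) * (Fintype.card F ^ 12 - 1) :=
        (show (27 : ℕ) = 3 * 9 by norm_num) ▸ mul_dvd_mul (three_dvd h3 1) (nine_dvd h3 2)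
      have := h1.mul_left (Fintype.card F ^ 120 * ((Fintype.card F ^ 8 - 1) * (Fintype.card F ^ 14 - 1) *
        (Fintype.card F ^ 18 - 1) * (Fintype.card F ^ 20 - 1) * (Fintype.card F ^ 24 - 1) *
        (Fintype.card F ^ 30 - 1)))
      refine this.trans (dvd_of_eq ?_)
      ring
  · left
    obtain ⟨F, _, _, q, hq, hF, ⟨e⟩⟩ := h
    rw [Nat.card_congr e.toEquiv]
    refine of_gcd_three (Nat.gcd_dvd_left 3 (q + 1)) ?_
    rw [T.te6 F q hq hF]
    have := (exc81 (q := q) (a := 36) (by norm_num)).mul_right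
      ((q ^ 5 + 1) * (q ^ 9 + 1) * (q ^ 12 - 1))
    refine this.trans (dvd_of_eq ?_)
    ring
  · left
    obtain ⟨F, _, _, q, hq, hF, ⟨e⟩⟩ := h
    rw [Nat.card_congr e.toEquiv, T.td4 F q hq hF]
    have := (exc27 (q := q) (a := 12) (by norm_num)).mul_right (q ^ 8 + q ^ 4 + 1)
    refine this.trans (dvd_of_eq ?_)
    ring
  · exact Or.inr h
  · left
    obtain ⟨F, _, _, m, hm, hF, ⟨e⟩⟩ := h
    rw [Nat.card_congr e.toEquiv, T.ree F m hm hF, mul_assoc]
    apply Dvd.dvd.mul_right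
    rw [← pow_mul]
    exact (show (27 : ℕ) = 3 ^ 3 by norm_num) ▸ pow_dvd_pow 3 (by omega)
  · left
    obtain ⟨F, _, _, m, hm, hF, ⟨e⟩⟩ := h
    rw [Nat.card_congr e.toEquiv, T.tf4 F m hm hF]
    have h3 : ¬ 3 ∣ 2 ^ (2 * m + 1) := fun h => by
      have := Nat.prime_three.dvd_of_dvd_pow h
      omega
    have h1 : 9 ∣ (2 ^ (2 * m + 1)) ^ 3 + 1 := by
      have : (2 ^ (2 * m + 1)) ^ 3 = 8 * 64 ^ m := by
        rw [← pow_mul, show (2 * m + 1) * 3 = 3 + 6 * m by ring, pow_add, pow_mul]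
        norm_num
      rw [this]
      have h64 : 64 ^ m % 9 = 1 := by
        rw [Nat.pow_mod]
        norm_num
      omega
    have h2 : 3 ∣ (2 ^ (2 * m + 1)) ^ 4 - 1 := three_dvd h3 2
    have := (mul_dvd_mul h1 h2).mul_left ((2 ^ (2 * m + 1)) ^ 12 * (2 ^ (2 * m + 1) - 1) *
      ((2 ^ (2 * m + 1)) ^ 6 + 1))
    refine Dvd.dvd.trans (by norm_num) (this.trans (dvd_of_eq ?_))
    ring
  · left
    rw [T.spor G (.tits, 17971200) (by simp [OrdDiv.spor]) h]
    norm_num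

/-- the sporadic groups: order divisible by 27, except for five of them -/
theorem spor {G : Type u} [Group G] (h : IsSporadicGroup G) :
    27 ∣ Nat.card G ∨ (Spor.IsoM11 G ∧ Nat.card G = 7920) ∨ (Spor.IsoM22 G ∧ Nat.card G = 443520) ∨
      (Spor.IsoM23 G ∧ Nat.card G = 10200960) ∨ (Spor.IsoHS G ∧ Nat.card G = 44352000) ∨
      (Spor.IsoJ1 G ∧ Nat.card G = 175560) := by
  have T := OrdDiv.table.{u}
  have key : ∀ (g : OrdDiv.Grp) (o : ℕ), (g, o) ∈ OrdDiv.spor → OrdDiv.Real g G → Nat.card G = o :=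
    fun g o hg hr => T.spor G (g, o) hg hr
  rcases h with h | h | h | h | h | h | h | h | h | h | h | h | h | h | h | h | h | h | h | h | h | h | h | h | h | h
  · exact Or.inr (Or.inl ⟨h, key .m11 _ (by simp [OrdDiv.spor]) h⟩)
  · left; rw [key .m12 95040 (by simp [OrdDiv.spor]) h]; norm_num
  · exact Or.inr (Or.inr (Or.inl ⟨h, key .m22 _ (by simp [OrdDiv.spor]) h⟩))
  · exact Or.inr (Or.inr (Or.inr (Or.inl ⟨h, key .m23 _ (by simp [OrdDiv.spor]) h⟩)))
  · left; rw [key .m24 244823040 (by simp [OrdDiv.spor]) h]; norm_num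
  · exact Or.inr (Or.inr (Or.inr (Or.inr (Or.inr ⟨h, key .j1 _ (by simp [OrdDiv.spor]) h⟩))))
  · left; rw [key .j2 604800 (by simp [OrdDiv.spor]) h]; norm_num
  · left; rw [key .j3 50232960 (by simp [OrdDiv.spor]) h]; norm_num
  · left; rw [key .j4 86775571046077562880 (by simp [OrdDiv.spor]) h]; norm_num
  · left; rw [key .co1 4157776806543360000 (by simp [OrdDiv.spor]) h]; norm_num
  · left; rw [key .co2 42305421312000 (by simp [OrdDiv.spor]) h]; norm_num
  · left; rw [key .co3 495766656000 (by simp [OrdDiv.spor]) h]; norm_num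
  · left; rw [key .mcl 898128000 (by simp [OrdDiv.spor]) h]; norm_num
  · exact Or.inr (Or.inr (Or.inr (Or.inr (Or.inl ⟨h, key .hs _ (by simp [OrdDiv.spor]) h⟩))))
  · left; rw [key .suz 448345497600 (by simp [OrdDiv.spor]) h]; norm_num
  · left; rw [key .he 4030387200 (by simp [OrdDiv.spor]) h]; norm_num
  · left; rw [key .ru 145926144000 (by simp [OrdDiv.spor]) h]; norm_num
  · left; rw [key .on 460815505920 (by simp [OrdDiv.spor]) h]; norm_num
  · left; rw [key .ly 51765179004000000 (by simp [OrdDiv.spor]) h]; norm_num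
  · left; rw [key .fi22 64561751654400 (by simp [OrdDiv.spor]) h]; norm_num
  · left; rw [key .fi23 4089470473293004800 (by simp [OrdDiv.spor]) h]; norm_num
  · left; rw [key .fi24 1255205709190661721292800 (by simp [OrdDiv.spor]) h]; norm_num
  · left; rw [key .hn 273030912000000 (by simp [OrdDiv.spor]) h]; norm_num
  · left; rw [key .th 90745943887872000 (by simp [OrdDiv.spor]) h]; norm_num
  · left; rw [key .b 4154781481226426191177580544000000 (by simp [OrdDiv.spor]) h]; norm_num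
  · left; rw [key .m 808017424794512875886459904961710757005754368000000000 (by simp [OrdDiv.spor]) h]; norm_num

/-- the Suzuki groups: order prime to 3 and divisible by 5 -/
theorem suz {G : Type u} [Group G] (h : Lie.IsoSuzuki G) : ¬ 3 ∣ Nat.card G ∧ 5 ∣ Nat.card G := by
  have T := OrdDiv.table.{u}
  obtain ⟨F, _, _, m, hm, hF, ⟨e⟩⟩ := h
  rw [Nat.card_congr e.toEquiv, T.sz F m hm hF]
  have h3 : ∀ k : ℕ, 2 ^ (2 * k + 1) % 3 = 2 := fun k => by
    rw [pow_succ, pow_mul, Nat.mul_mod, Nat.pow_mod]; norm_num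
  have h5 : ∀ k : ℕ, (2 ^ (2 * k + 1)) ^ 2 % 5 = 4 := fun k => by
    rw [← pow_mul, show (2 * k + 1) * 2 = 2 + 4 * k by ring, pow_add, pow_mul]
    have h16 : (2 ^ 4) ^ k % 5 = 1 := by rw [Nat.pow_mod]; norm_num
    omega
  have h1 := h3 m
  have h2 := h5 m
  constructor
  · intro h
    rcases (Nat.prime_three.dvd_mul).1 h with h | h
    · rcases (Nat.prime_three.dvd_mul).1 h with h | h
      · have := Nat.prime_three.dvd_of_dvd_pow h
        omega
      · omega
    · have h4 : (2 ^ (2 * m + 1)) ^ 2 % 3 = 1 := by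
        rw [Nat.pow_mod, h1]
      omega
  · apply Dvd.dvd.mul_left
    omega

theorem alt_card {S : Type u} [Group S] {n : ℕ} (hn : 5 ≤ n) (e : S ≃* ↥(alternatingGroup (Fin n))) :
    n.factorial = 2 * Nat.card S := OrdDiv.alt_card hn e

theorem not_prime {G : Type u} [Group G] [Finite G] (hna : ¬ IsMulCommutative G) : ¬ IsPrimeCyclic G := by
  intro h
  have : Fact (Nat.card G).Prime := ⟨h⟩
  have : IsCyclic G := isCyclic_of_prime_card (p := Nat.card G) rfl
  exact hna (IsCyclic.isMulCommutative (α := G))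

/-- **The finite simple groups whose order is divisible by 3 but not by 27.** -/
theorem not27 {G : Type u} [Group G] [Finite G] [IsSimpleGroup G] (hna : ¬ IsMulCommutative G)
    (h27 : ¬ 27 ∣ Nat.card G) (h3 : 3 ∣ Nat.card G) :
    (∃ n : ℕ, 5 ≤ n ∧ n ≤ 8 ∧ Nonempty (G ≃* alternatingGroup (Fin n))) ∨
    (∃ (F : Type) (_ : Field F) (_ : Fintype F) (n : ℕ), 2 ≤ n ∧ (n = 2 → 4 ≤ Fintype.card F) ∧
      Nonempty (G ≃* Matrix.ProjectiveSpecialLinearGroup (Fin n) F)) ∨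
    (∃ (F : Type) (_ : Field F) (_ : Fintype F), 3 ≤ Fintype.card F ∧ Nonempty (G ≃* PSp 2 F)) ∨
    (∃ (F : Type) (_ : Field F) (_ : Fintype F) (n q : ℕ), Fintype.card F = q ^ 2 ∧ 3 ≤ n ∧ ¬ (n = 3 ∧ q = 2) ∧
      Nonempty (G ≃* PSU n F q)) ∨
    (Spor.IsoM11 G ∧ Nat.card G = 7920) ∨ (Spor.IsoM22 G ∧ Nat.card G = 443520) ∨
      (Spor.IsoM23 G ∧ Nat.card G = 10200960) ∨ (Spor.IsoHS G ∧ Nat.card G = 44352000) ∨
      (Spor.IsoJ1 G ∧ Nat.card G = 175560) := by
  rcases (S0000.result (G := G)) with h | h | h | h | h | h | h | h | h | h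
  · exact absurd h (not_prime hna)
  · obtain ⟨n, hn, ⟨e⟩⟩ := h
    left
    refine ⟨n, hn, ?_, ⟨e⟩⟩
    by_contra h9
    exact h27 (fact27 (by omega) (alt_card hn e))
  · exact Or.inr (Or.inl h)
  · obtain ⟨F, _, _, m, hm, hm2, ⟨e⟩⟩ := h
    by_cases h : m = 2
    · subst h
      exact Or.inr (Or.inr (Or.inl ⟨F, _, _, hm2 rfl, ⟨e⟩⟩))
    · refine absurd ?_ h27
      rw [Nat.card_congr e.toEquiv]
      exact psp27 (by omega)
  · exact Or.inr (Or.inr (Or.inr (Or.inl h)))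
  · obtain ⟨F, _, _, m, hm, ho, ⟨e⟩⟩ := h
    refine absurd ?_ h27
    rw [Nat.card_congr e.toEquiv]
    exact (oodd hm ho).1
  · obtain ⟨F, _, _, m, hm, ⟨e⟩⟩ := h
    refine absurd ?_ h27
    rw [Nat.card_congr e.toEquiv]
    exact (oplus hm).1
  · obtain ⟨F, _, _, m, a, b, hm, hab, ⟨e⟩⟩ := h
    refine absurd ?_ h27
    rw [Nat.card_congr e.toEquiv]
    exact (ominus hm hab).1
  · rcases exc h with h | h
    · exact absurd h h27
    · exact absurd h3 (suz h).1
  · rcases spor h with h | h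
    · exact absurd h h27
    · exact Or.inr (Or.inr (Or.inr (Or.inr h)))

end Cfsg.Agent.H435.Cases
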