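import Cfsg.Agent.Sigma.Symp
import Cfsg.Agent.LieClassical.HermSiegel
import Cfsg.Agent.LieClassical.SUBasic

/-!
# Elements of order 3 with large centralizers in classical groups (helper435)

`BigCent G k`: an element of order 3 of `G` is centralized by a subgroup of order `k`.
* `psp`: `BigCent (PSp 2 F) q`;
* `psl`: `BigCent (PSL n F) (q ^ 2)` for `n ≥ 4`; `psl3_one`, `psl3_two`: `BigCent (PSL 3 F) (q - 1)` for `q ≡ 1, 2 mod 3`;
* `psu`: `BigCent (PSU n F q) q` for `n ≥ 4`; `psu3_one`, `psu3_two`: `BigCent (PSU 3 F q) (q + 1)`.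
-/

set_option autoImplicit false

namespace Cfsg.Agent.H435.Elts

open Cfsg Matrix

/-- an element of order 3 of `G` is centralized by a subgroup of order `k` -/
def BigCent (G : Type*) [Group G] (k : ℕ) : Prop :=
  ∃ (x : G) (V : Subgroup G), orderOf x = 3 ∧ (∀ y ∈ V, y * x = x * y) ∧ Nat.card V = k

theorem BigCent.congr {G G' : Type*} [Group G] [Group G'] {k : ℕ} (h : BigCent G k) (e : G ≃* G') : BigCent G' k := by
  obtain ⟨x, V, hx, hV, hk⟩ := h
  refine ⟨e x, V.map e.toMonoidHom, by rw [MulEquiv.orderOf_eq, hx], ?_, ?_⟩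
  · rintro _ ⟨y, hy, rfl⟩
    change e y * e x = e x * e y
    rw [← map_mul, ← map_mul, hV y hy]
  · rw [← hk]
    exact (Nat.card_congr (V.equivMapOfInjective _ e.injective).toEquiv).symm

theorem orderOf_mk {H : Type*} [Group H] {x : H} (hx3 : x ^ 3 ∈ Subgroup.center H) (hx : x ∉ Subgroup.center H) :
    orderOf (QuotientGroup.mk x : H ⧸ Subgroup.center H) = 3 := by
  apply orderOf_eq_prime
  · rw [← QuotientGroup.mk_pow]
    exact (QuotientGroup.eq_one_iff _).2 hx3
  · intro h
    exact hx ((QuotientGroup.eq_one_iff _).1 h)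

theorem BigCent.mk {H A : Type*} [Group H] [Group A] {x : H} (hx3 : x ^ 3 ∈ Subgroup.center H)
    (hx : x ∉ Subgroup.center H) (f : A →* H) (hf : ∀ a, f a ∈ Subgroup.center H → a = 1)
    (hc : ∀ a, f a * x = x * f a) : BigCent (H ⧸ Subgroup.center H) (Nat.card A) := by
  refine ⟨QuotientGroup.mk x, ((QuotientGroup.mk' (Subgroup.center H)).comp f).range, orderOf_mk hx3 hx, ?_, ?_⟩
  · rintro _ ⟨a, rfl⟩
    change (QuotientGroup.mk (f a * x) : H ⧸ Subgroup.center H) = QuotientGroup.mk (x * f a)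
    rw [hc]
  · apply (Nat.card_congr (MonoidHom.ofInjective (f := (QuotientGroup.mk' (Subgroup.center H)).comp f) ?_).toEquiv).symm
    rw [injective_iff_map_eq_one]
    intro a ha
    exact hf a ((QuotientGroup.eq_one_iff _).1 ha)

/-! ### `PSp₄(q)` -/

section Psp

open Cfsg.Agent.Sigma.Symp

theorem psp (F : Type*) [Field F] [Fintype F] : BigCent (PSp 2 F) (Fintype.card F) := by
  have hcard : Nat.card (Multiplicative F) = Fintype.card F := by
    rw [Nat.card_eq_fintype_card]; exact Fintype.card_congr Multiplicative.toAdd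
  rw [← hcard]
  let f : Multiplicative F →* symplecticGroup (Fin 2) F :=
    (emb 2 F).comp ((MonoidHom.mulSingle (fun _ => Matrix.SpecialLinearGroup (Fin 2) F) 1).comp (upper F))
  have hmat : ∀ g : Fin 2 → Matrix.SpecialLinearGroup (Fin 2) F, (emb 2 F g).1 = fromBlocks (diagonal fun i => g i 0 0)
      (diagonal fun i => g i 0 1) (diagonal fun i => g i 1 0) (diagonal fun i => g i 1 1) := fun _ => rfl
  refine BigCent.mk (x := emb 2 F (Pi.mulSingle 0 (three F))) ?_ ?_ f ?_ ?_
  · rw [← map_pow, ← Pi.mulSingle_pow, three_pow, Pi.mulSingle_one, map_one]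
    exact one_mem _
  · rw [LieClassical.SympCenter.mem_center_iff]
    rintro ⟨a, ha⟩
    rw [hmat] at ha
    have h1 := congrFun (congrFun ha (Sum.inl 0)) (Sum.inr 0)
    rw [fromBlocks_apply₁₂, diagonal_apply_eq, Pi.mulSingle_eq_same] at h1
    have h3 : (three F : Matrix (Fin 2) (Fin 2) F) 0 1 = -1 := rfl
    rw [h3] at h1
    simp at h1
  · intro a ha
    rw [LieClassical.SympCenter.mem_center_iff] at ha
    obtain ⟨b, hb⟩ := ha
    have hb' : (emb 2 F (Pi.mulSingle 1 (upper F a))).1 = b • 1 := hb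
    rw [hmat] at hb'
    have h1 := congrFun (congrFun hb' (Sum.inl 1)) (Sum.inr 1)
    have h2 : (upper F a : Matrix (Fin 2) (Fin 2) F) 0 1 = 0 := by
      simpa using h1
    apply upper_injective
    rw [map_one]
    apply Subtype.ext
    have h3 : (upper F a : Matrix (Fin 2) (Fin 2) F) = !![1, a.toAdd; 0, 1] := rfl
    rw [h3] at h2
    have h4 : a.toAdd = 0 := h2
    change (upper F a : Matrix (Fin 2) (Fin 2) F) = 1
    rw [h3, h4]
    ext i j
    fin_cases i <;> fin_cases j <;> simp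
  · intro a
    change emb 2 F (Pi.mulSingle 1 (upper F a)) * emb 2 F (Pi.mulSingle 0 (three F)) =
      emb 2 F (Pi.mulSingle 0 (three F)) * emb 2 F (Pi.mulSingle 1 (upper F a))
    rw [← map_mul, ← map_mul]
    congr 1
    exact (Pi.mulSingle_commute (f := fun _ : Fin 2 => Matrix.SpecialLinearGroup (Fin 2) F)
      (show (1 : Fin 2) ≠ 0 by decide) (upper F a) (three F)).eq

end Psp

/-! ### `PSL_n(q)` -/

section Psl

variable {F : Type*} [Field F]

/-- the matrix `[0, -1; 1, -1]` of order 3 -/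
def A3 (F : Type*) [Field F] : Matrix (Fin 2) (Fin 2) F := !![0, -1; 1, -1]

theorem A3_cube : A3 F * A3 F * A3 F = 1 := by
  ext i j
  fin_cases i <;> fin_cases j <;> simp [A3, Matrix.mul_apply, Fin.sum_univ_two]

theorem A3_det : (A3 F).det = 1 := by simp [A3, Matrix.det_fin_two]

/-- `a + b A` -/
def lin (a b : F) : Matrix (Fin 2) (Fin 2) F := !![a, -b; b, a - b]

theorem lin_comm (a b : F) : A3 F * lin a b = lin a b * A3 F := by
  ext i j
  fin_cases i <;> fin_cases j <;> simp [A3, lin, Matrix.mul_apply, Fin.sum_univ_two, sub_eq_add_neg, add_comm]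

theorem lin_add (a b c d : F) : lin (a + c) (b + d) = lin a b + lin c d := by
  ext i j
  fin_cases i <;> fin_cases j <;> simp [lin]
  · ring
  · ring

/-- index type -/
abbrev Ix (k : ℕ) := (Fin 2 ⊕ Fin 2) ⊕ Fin k

/-- `diag(A, A, 1)` -/
def X (k : ℕ) (F : Type*) [Field F] : Matrix (Ix k) (Ix k) F :=
  fromBlocks (fromBlocks (A3 F) 0 0 (A3 F)) 0 0 1

/-- the unipotent matrices -/
def U (k : ℕ) (a b : F) : Matrix (Ix k) (Ix k) F :=
  fromBlocks (fromBlocks 1 (lin a b) 0 1) 0 0 1

theorem X_cube (k : ℕ) : X k F * X k F * X k F = 1 := by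
  simp [X, fromBlocks_multiply, A3_cube]

theorem X_det (k : ℕ) : (X k F).det = 1 := by
  simp [X, A3_det]

theorem U_det (k : ℕ) (a b : F) : (U k a b).det = 1 := by
  simp [U]

theorem U_mul (k : ℕ) (a b c d : F) : U k a b * U k c d = U k (a + c) (b + d) := by
  simp [U, fromBlocks_multiply, lin_add, add_comm]

theorem U_zero (k : ℕ) : U k (0 : F) 0 = 1 := by
  have h : lin (0 : F) 0 = 0 := by
    ext i j
    fin_cases i <;> fin_cases j <;> simp [lin]
  simp [U, h]

theorem X_comm (k : ℕ) (a b : F) : U k a b * X k F = X k F * U k a b := by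
  simp [U, X, fromBlocks_multiply, lin_comm]

/-- transport to `SL_n` -/
def toSL {ι : Type*} [Fintype ι] [DecidableEq ι] {n : ℕ} (e : ι ≃ Fin n) (M : Matrix ι ι F) (h : M.det = 1) :
    Matrix.SpecialLinearGroup (Fin n) F := ⟨Matrix.reindex e e M, by rw [Matrix.det_reindex_self, h]⟩

theorem toSL_mul {ι : Type*} [Fintype ι] [DecidableEq ι] {n : ℕ} (e : ι ≃ Fin n) (M N : Matrix ι ι F) (h : M.det = 1)
    (h' : N.det = 1) : toSL e M h * toSL e N h' = toSL e (M * N) (by rw [Matrix.det_mul, h, h', one_mul]) := by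
  apply Subtype.ext
  change Matrix.reindex e e M * Matrix.reindex e e N = Matrix.reindex e e (M * N)
  simp [Matrix.reindex_apply, Matrix.submatrix_mul_equiv]

theorem toSL_congr {ι : Type*} [Fintype ι] [DecidableEq ι] {n : ℕ} (e : ι ≃ Fin n) {M N : Matrix ι ι F} (h : M.det = 1)
    (h' : N.det = 1) (hMN : M = N) : toSL e M h = toSL e N h' := by subst hMN; rfl

theorem toSL_one {ι : Type*} [Fintype ι] [DecidableEq ι] {n : ℕ} (e : ι ≃ Fin n) (h : (1 : Matrix ι ι F).det = 1) :
    toSL e 1 h = 1 := by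
  apply Subtype.ext
  change Matrix.reindex e e 1 = 1
  simp

theorem scalar_of_mem_center {ι : Type*} [Fintype ι] [DecidableEq ι] {n : ℕ} (e : ι ≃ Fin n) {M : Matrix ι ι F}
    (h : M.det = 1) (hc : toSL e M h ∈ Subgroup.center (Matrix.SpecialLinearGroup (Fin n) F)) :
    ∃ r : F, M = Matrix.scalar ι r := by
  obtain ⟨r, -, hr⟩ := Matrix.SpecialLinearGroup.mem_center_iff.mp hc
  refine ⟨r, ?_⟩
  have h1 : Matrix.scalar (Fin n) r = Matrix.reindex e e M := hr
  have h2 : M = Matrix.reindex e.symm e.symm (Matrix.scalar (Fin n) r) := by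
    rw [h1]
    ext i j
    simp
  rw [h2]
  ext i j
  simp [Matrix.scalar_apply, Matrix.diagonal_apply]

theorem psl [Fintype F] {n : ℕ} (hn : 4 ≤ n) :
    BigCent (Matrix.ProjectiveSpecialLinearGroup (Fin n) F) (Fintype.card F ^ 2) := by
  obtain ⟨k, rfl⟩ : ∃ k, n = 4 + k := ⟨n - 4, by omega⟩
  have hcard : Nat.card (Multiplicative (F × F)) = Fintype.card F ^ 2 := by
    rw [Nat.card_eq_fintype_card, pow_two, ← Fintype.card_prod]; exact Fintype.card_congr Multiplicative.toAdd
  rw [← hcard]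
  let e : Ix k ≃ Fin (4 + k) := (Equiv.sumCongr finSumFinEquiv (Equiv.refl _)).trans finSumFinEquiv
  let f : Multiplicative (F × F) →* Matrix.SpecialLinearGroup (Fin (4 + k)) F :=
    { toFun := fun p => toSL e (U k p.toAdd.1 p.toAdd.2) (U_det k _ _)
      map_one' := by
        rw [← toSL_one e (F := F) (by simp)]
        exact toSL_congr e _ _ (U_zero k)
      map_mul' := fun p r => by
        rw [toSL_mul]
        exact toSL_congr e _ _ (U_mul k _ _ _ _).symm }
  refine BigCent.mk (x := toSL e (X k F) (X_det k)) ?_ ?_ f ?_ ?_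
  · have h : toSL e (X k F) (X_det k) ^ 3 = 1 := by
      rw [pow_succ, pow_two, toSL_mul, toSL_mul, ← toSL_one e (F := F) (by simp)]
      exact toSL_congr e _ _ (X_cube k)
    rw [h]
    exact one_mem _
  · intro h
    obtain ⟨r, hr⟩ := scalar_of_mem_center e _ h
    have h1 := congrFun (congrFun hr (Sum.inl (Sum.inl 0))) (Sum.inl (Sum.inl 1))
    simp [X, A3] at h1
  · intro p hp
    obtain ⟨r, hr⟩ := scalar_of_mem_center e (U_det k p.toAdd.1 p.toAdd.2) hp
    have h1 := congrFun (congrFun hr (Sum.inl (Sum.inl 0))) (Sum.inl (Sum.inr 0))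
    have h2 := congrFun (congrFun hr (Sum.inl (Sum.inl 1))) (Sum.inl (Sum.inr 0))
    simp [U, lin] at h1 h2
    apply Multiplicative.toAdd.injective
    exact Prod.ext h1 h2
  · intro p
    change toSL e _ (U_det k _ _) * toSL e _ (X_det k) = toSL e _ (X_det k) * toSL e _ (U_det k _ _)
    rw [toSL_mul, toSL_mul]
    exact toSL_congr e _ _ (X_comm k _ _)

/-- the diagonal element of `SL₃` -/
def dg3 (a b c : F) (h : a * b * c = 1) : Matrix.SpecialLinearGroup (Fin 3) F :=
  ⟨diagonal ![a, b, c], by rw [det_diagonal, Fin.prod_univ_three]; exact h⟩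

theorem dg3_mul {a b c a' b' c' : F} (h : a * b * c = 1) (h' : a' * b' * c' = 1) :
    dg3 a b c h * dg3 a' b' c' h' = dg3 (a * a') (b * b') (c * c') (by rw [show a * a' * (b * b') * (c * c') = (a * b * c) * (a' * b' * c') by ring, h, h', one_mul]) := by
  apply Subtype.ext
  change diagonal _ * diagonal _ = diagonal _
  rw [diagonal_mul_diagonal]
  congr 1
  funext i
  fin_cases i <;> rfl

theorem dg3_congr {a b c a' b' c' : F} (h : a * b * c = 1) (h' : a' * b' * c' = 1) (ha : a = a') (hb : b = b')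
    (hc : c = c') : dg3 a b c h = dg3 a' b' c' h' := by subst ha hb hc; rfl

theorem dg3_one (h : (1 : F) * 1 * 1 = 1) : dg3 1 1 1 h = 1 := by
  apply Subtype.ext
  change diagonal _ = (1 : Matrix (Fin 3) (Fin 3) F)
  rw [← diagonal_one]
  congr 1
  funext i
  fin_cases i <;> rfl

theorem eq_of_center {M : Matrix.SpecialLinearGroup (Fin 3) F}
    (h : M ∈ Subgroup.center (Matrix.SpecialLinearGroup (Fin 3) F)) : ∃ r : F, M.1 = Matrix.scalar (Fin 3) r := by
  obtain ⟨r, -, hr⟩ := Matrix.SpecialLinearGroup.mem_center_iff.mp h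
  exact ⟨r, hr.symm⟩

theorem dg3_center {a b c : F} {h : a * b * c = 1}
    (hc : dg3 a b c h ∈ Subgroup.center (Matrix.SpecialLinearGroup (Fin 3) F)) : a = b ∧ b = c := by
  obtain ⟨r, hr⟩ := eq_of_center hc
  have h0 := congrFun (congrFun hr 0) 0
  have h1 := congrFun (congrFun hr 1) 1
  have h2 := congrFun (congrFun hr 2) 2
  simp [dg3] at h0 h1 h2
  exact ⟨h0.trans h1.symm, h1.trans h2.symm⟩

theorem exists_omega [Fintype F] (h : 3 ∣ Fintype.card F - 1) : ∃ w : F, w ^ 3 = 1 ∧ w ≠ 1 := by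
  have h1 : 3 ∣ Nat.card Fˣ := by
    classical
    rw [Nat.card_eq_fintype_card, Fintype.card_units]; exact h
  obtain ⟨w, hw⟩ := exists_prime_orderOf_dvd_card' 3 h1
  refine ⟨w, ?_, ?_⟩
  · have := pow_orderOf_eq_one w
    rw [hw] at this
    have h2 := congrArg Units.val this
    simpa using h2
  · intro h2
    have h3 : w = 1 := Units.ext h2
    rw [h3, orderOf_one] at hw
    omega

theorem card_units_eq [Fintype F] : Nat.card Fˣ = Fintype.card F - 1 := by
  classical
  rw [Nat.card_eq_fintype_card, Fintype.card_units]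

theorem psl3_one [Fintype F] (h3 : 3 ∣ Fintype.card F - 1) :
    BigCent (Matrix.ProjectiveSpecialLinearGroup (Fin 3) F) (Fintype.card F - 1) := by
  rw [← card_units_eq]
  obtain ⟨w, hw, hw1⟩ := exists_omega h3
  have hw' : (1 : F) * w * w ^ 2 = 1 := by linear_combination hw
  have hp : ∀ c : Fˣ, (c : F) * ((c⁻¹ : Fˣ) : F) * 1 = 1 := fun c => by simp
  let f : Fˣ →* Matrix.SpecialLinearGroup (Fin 3) F :=
    { toFun := fun c => dg3 (c : F) ((c⁻¹ : Fˣ) : F) 1 (hp c)
      map_one' := by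
        rw [← dg3_one (F := F) (by simp)]
        exact dg3_congr _ _ (by simp) (by simp) rfl
      map_mul' := fun a b => by
        rw [dg3_mul]
        exact dg3_congr _ _ (by simp) (by simp [mul_comm]) (by simp) }
  refine BigCent.mk (x := dg3 1 w (w ^ 2) hw') ?_ ?_ f ?_ ?_
  · have h : dg3 1 w (w ^ 2) hw' ^ 3 = 1 := by
      rw [pow_succ, pow_two, dg3_mul, dg3_mul, ← dg3_one (F := F) (by simp)]
      exact dg3_congr _ _ (by simp) (by linear_combination hw) (by linear_combination (w ^ 3 + 1) * hw)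
    rw [h]
    exact one_mem _
  · intro h
    exact hw1 (dg3_center h).1.symm
  · intro c hc
    have h := dg3_center (h := hp c) hc
    apply Units.ext
    exact h.1.trans h.2
  · intro c
    change dg3 _ _ _ (hp c) * dg3 _ _ _ hw' = dg3 _ _ _ hw' * dg3 _ _ _ (hp c)
    rw [dg3_mul, dg3_mul]
    exact dg3_congr _ _ (mul_comm _ _) (mul_comm _ _) (mul_comm _ _)

/-- `A ⊕ 1` -/
def A31 (F : Type*) [Field F] : Matrix.SpecialLinearGroup (Fin 3) F :=
  ⟨!![0, -1, 0; 1, -1, 0; 0, 0, 1], by simp [det_fin_three]⟩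

theorem psl3_two [Fintype F] (h3 : ¬ 3 ∣ Fintype.card F - 1) :
    BigCent (Matrix.ProjectiveSpecialLinearGroup (Fin 3) F) (Fintype.card F - 1) := by
  rw [← card_units_eq]
  have hp : ∀ c : Fˣ, (c : F) * (c : F) * (((c⁻¹ ^ 2 : Fˣ)) : F) = 1 := fun c => by
    have : (c : F) ≠ 0 := c.ne_zero
    simp
    field_simp
  let f : Fˣ →* Matrix.SpecialLinearGroup (Fin 3) F :=
    { toFun := fun c => dg3 (c : F) (c : F) (((c⁻¹ ^ 2 : Fˣ)) : F) (hp c)
      map_one' := by
        rw [← dg3_one (F := F) (by simp)]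
        exact dg3_congr _ _ (by simp) (by simp) (by simp)
      map_mul' := fun a b => by
        rw [dg3_mul]
        exact dg3_congr _ _ (by simp) (by simp) (by simp [mul_pow, mul_comm]) }
  refine BigCent.mk (x := A31 F) ?_ ?_ f ?_ ?_
  · have h : A31 F ^ 3 = 1 := by
      apply Subtype.ext
      rw [Matrix.SpecialLinearGroup.coe_pow]
      ext i j
      fin_cases i <;> fin_cases j <;> simp [A31, pow_succ, Matrix.mul_apply, Fin.sum_univ_three]
    rw [h]
    exact one_mem _
  · intro h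
    obtain ⟨r, hr⟩ := eq_of_center h
    have h0 := congrFun (congrFun hr 0) 1
    simp [A31] at h0
  · intro c hc
    have h := (dg3_center (h := hp c) hc).2
    have h1 : c ^ 3 = 1 := by
      apply Units.ext
      have h2 : (c : F) ≠ 0 := c.ne_zero
      have h4 : (c : F) = ((c : F)⁻¹) ^ 2 := by simpa using h
      have h5 : (c : F) ^ 3 = 1 := by
        calc (c : F) ^ 3 = (c : F) * (c : F) ^ 2 := by ring
          _ = ((c : F)⁻¹) ^ 2 * (c : F) ^ 2 := by rw [← h4]
          _ = 1 := by rw [← mul_pow, inv_mul_cancel₀ h2, one_pow]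
      simpa using h5
    have h6 : orderOf c ∣ 3 := orderOf_dvd_of_pow_eq_one h1
    have h7 : orderOf c ∣ Fintype.card F - 1 := by
      rw [← card_units_eq]; exact orderOf_dvd_natCard c
    rcases (Nat.dvd_prime Nat.prime_three).1 h6 with h8 | h8
    · exact orderOf_eq_one_iff.1 h8
    · rw [h8] at h7
      exact absurd h7 h3
  · intro c
    apply Subtype.ext
    change diagonal _ * (A31 F).1 = (A31 F).1 * diagonal _
    ext i j
    rw [diagonal_mul, mul_diagonal]
    fin_cases i <;> fin_cases j <;> simp [A31]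

end Psl

/-! ### `PSU_n(q)` -/

section Psu

open Cfsg.Agent.LieClassical.SUBasic Cfsg.Agent.LieClassical.HermBasic Cfsg.Agent.LieClassical.HermSiegel

variable {F : Type*} [Field F] {q : ℕ}

/-- norm one elements -/
abbrev NO (F : Type*) [Field F] (q : ℕ) : Subgroup Fˣ := (powMonoidHom (q + 1) : Fˣ →* Fˣ).ker

theorem NO_spec (c : ↥(NO F q)) : ((c.1 : Fˣ) : F) ^ (q + 1) = 1 := by
  have := c.2
  rw [MonoidHom.mem_ker, powMonoidHom_apply] at this
  rw [← Units.val_pow_eq_pow_val, this, Units.val_one]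

theorem card_NO [Fintype F] (hF : Fintype.card F = q ^ 2) : Nat.card ↥(NO F q) = q + 1 := by
  rw [IsCyclic.card_powMonoidHom_ker, Cfsg.Agent.LieClassical.HermBasic.card_units_eq hF]
  exact Nat.gcd_eq_right (Dvd.intro _ rfl)

/-- the diagonal element of `SU₃` -/
def ud (q : ℕ) (a b c : F) (h : a * b * c = 1) (ha : a ^ (q + 1) = 1) (hb : b ^ (q + 1) = 1) (hc : c ^ (q + 1) = 1) :
    SU 3 F q :=
  suDiag q ![a, b, c] (by rw [Fin.prod_univ_three]; exact h) (by
    intro i
    fin_cases i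
    · exact ha
    · exact hb
    · exact hc)

theorem eq_of_center_SU [Fintype F] (hF : Fintype.card F = q ^ 2) {n : ℕ} (hn : 3 ≤ n) {A : SU n F q}
    (h : A ∈ Subgroup.center (SU n F q)) : ∃ r : F, A.1.1 = diagonal fun _ => r := by
  obtain ⟨c, h1, h2, rfl⟩ := (mem_center_SU_iff hF hn A).1 h
  exact ⟨c, rfl⟩

theorem ud_mul {a b c a' b' c' : F} (h : a * b * c = 1) (ha : a ^ (q + 1) = 1) (hb : b ^ (q + 1) = 1)
    (hc : c ^ (q + 1) = 1) (h' : a' * b' * c' = 1) (ha' : a' ^ (q + 1) = 1) (hb' : b' ^ (q + 1) = 1)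
    (hc' : c' ^ (q + 1) = 1) :
    ud q a b c h ha hb hc * ud q a' b' c' h' ha' hb' hc' = ud q (a * a') (b * b') (c * c')
      (by rw [show a * a' * (b * b') * (c * c') = (a * b * c) * (a' * b' * c') by ring, h, h', one_mul])
      (by rw [mul_pow, ha, ha', one_mul]) (by rw [mul_pow, hb, hb', one_mul])
      (by rw [mul_pow, hc, hc', one_mul]) := by
  apply Subtype.ext
  apply Subtype.ext
  change diagonal _ * diagonal _ = diagonal _
  rw [diagonal_mul_diagonal]
  congr 1
  funext i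
  fin_cases i <;> rfl

theorem ud_congr {a b c a' b' c' : F} (h : a * b * c = 1) (ha : a ^ (q + 1) = 1) (hb : b ^ (q + 1) = 1)
    (hc : c ^ (q + 1) = 1) (h' : a' * b' * c' = 1) (ha' : a' ^ (q + 1) = 1) (hb' : b' ^ (q + 1) = 1)
    (hc' : c' ^ (q + 1) = 1) (e1 : a = a') (e2 : b = b') (e3 : c = c') :
    ud q a b c h ha hb hc = ud q a' b' c' h' ha' hb' hc' := by subst e1 e2 e3; rfl

theorem ud_one (h : (1 : F) * 1 * 1 = 1) (h1 : (1 : F) ^ (q + 1) = 1) : ud q 1 1 1 h h1 h1 h1 = 1 := by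
  apply Subtype.ext
  apply Subtype.ext
  change diagonal _ = (1 : Matrix (Fin 3) (Fin 3) F)
  rw [← diagonal_one]
  congr 1
  funext i
  fin_cases i <;> rfl

theorem ud_center [Fintype F] (hF : Fintype.card F = q ^ 2) {a b c : F} {h : a * b * c = 1} {ha : a ^ (q + 1) = 1}
    {hb : b ^ (q + 1) = 1} {hc : c ^ (q + 1) = 1}
    (hz : ud q a b c h ha hb hc ∈ Subgroup.center (SU 3 F q)) : a = b ∧ b = c := by
  obtain ⟨r, hr⟩ := eq_of_center_SU hF le_rfl hz
  have h0 := congrFun (congrFun hr 0) 0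
  have h1 := congrFun (congrFun hr 1) 1
  have h2 := congrFun (congrFun hr 2) 2
  simp [ud] at h0 h1 h2
  exact ⟨h0.trans h1.symm, h1.trans h2.symm⟩

theorem psu3_two [Fintype F] (hF : Fintype.card F = q ^ 2) (h3 : 3 ∣ q + 1) : BigCent (PSU 3 F q) (q + 1) := by
  have hcard := card_NO hF
  obtain ⟨w, hw⟩ := exists_prime_orderOf_dvd_card' 3 (G := ↥(NO F q)) (by rw [hcard]; exact h3)
  have hw3 : ((w.1 : Fˣ) : F) ^ 3 = 1 := by
    have := pow_orderOf_eq_one w
    rw [hw] at this
    have h2 := congrArg (fun y : ↥(NO F q) => ((y.1 : Fˣ) : F)) this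
    simpa using h2
  have hw1 : ((w.1 : Fˣ) : F) ≠ 1 := by
    intro h2
    have h3 : w = 1 := Subtype.ext (Units.ext h2)
    rw [h3, orderOf_one] at hw
    omega
  have hwN := NO_spec w
  generalize ((w.1 : Fˣ) : F) = ω at *
  have hw' : (1 : F) * ω * ω ^ 2 = 1 := by linear_combination hw3
  have hwN2 : (ω ^ 2) ^ (q + 1) = 1 := by rw [← pow_mul, mul_comm, pow_mul, hwN, one_pow]
  have hp : ∀ c : ↥(NO F q), ((c.1 : Fˣ) : F) * (((c⁻¹).1 : Fˣ) : F) * 1 = 1 := fun c => by simp
  let f : ↥(NO F q) →* SU 3 F q :=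
    { toFun := fun c => ud q ((c.1 : Fˣ) : F) (((c⁻¹).1 : Fˣ) : F) 1 (hp c) (NO_spec c) (NO_spec c⁻¹) (one_pow _)
      map_one' := by
        rw [← ud_one (q := q) (F := F) (by simp) (one_pow _)]
        exact ud_congr _ _ _ _ _ _ _ _ (by simp) (by simp) rfl
      map_mul' := fun a b => by
        rw [ud_mul]
        exact ud_congr _ _ _ _ _ _ _ _ (by simp) (by simp [mul_comm]) (by simp) }
  rw [← hcard]
  refine BigCent.mk (x := ud q 1 ω (ω ^ 2) hw' (one_pow _) hwN hwN2) ?_ ?_ f ?_ ?_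
  · have h : ud q 1 ω (ω ^ 2) hw' (one_pow _) hwN hwN2 ^ 3 = 1 := by
      rw [pow_succ, pow_two, ud_mul, ud_mul, ← ud_one (q := q) (F := F) (by simp) (one_pow _)]
      exact ud_congr _ _ _ _ _ _ _ _ (by simp) (by linear_combination hw3) (by linear_combination (ω ^ 3 + 1) * hw3)
    rw [h]
    exact one_mem _
  · intro h
    exact hw1 (ud_center hF h).1.symm
  · intro c hc
    have h := ud_center (h := hp c) (ha := NO_spec c) (hb := NO_spec c⁻¹) (hc := one_pow _) hF hc
    apply Subtype.ext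
    apply Units.ext
    exact h.1.trans h.2
  · intro c
    change ud q _ _ _ (hp c) (NO_spec c) (NO_spec c⁻¹) (one_pow _) * ud q _ _ _ hw' (one_pow _) hwN hwN2 =
      ud q _ _ _ hw' (one_pow _) hwN hwN2 * ud q _ _ _ (hp c) (NO_spec c) (NO_spec c⁻¹) (one_pow _)
    rw [ud_mul, ud_mul]
    exact ud_congr _ _ _ _ _ _ _ _ (mul_comm _ _) (mul_comm _ _) (mul_comm _ _)

/-- an element of order 3 in `SU₂ ⊕ 1` -/
theorem exists_three [Fintype F] (hF : Fintype.card F = q ^ 2) (h3 : (3 : F) ≠ 0) : ∃ x : SU 3 F q, x ^ 3 = 1 ∧ x ∉ Subgroup.center (SU 3 F q) ∧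
    x.1.1 0 2 = 0 ∧ x.1.1 1 2 = 0 ∧ x.1.1 2 0 = 0 ∧ x.1.1 2 1 = 0 := by
  obtain ⟨a, ha⟩ := exists_trace_eq hF (c := -1) (by rw [neg_pow_q hF, one_pow])
  obtain ⟨b, hb⟩ := exists_norm_eq hF (c := 1 - a * a ^ q)
    (by rw [sub_pow_q hF, one_pow, mul_pow, pow_q_pow_q hF, mul_comm])
  have hb' : b * b ^ q + a * a ^ q = 1 := by rw [hb]; ring
  set M : Matrix (Fin 3) (Fin 3) F := !![a, b, 0; -(b ^ q), a ^ q, 0; 0, 0, 1] with hM
  have hdet : M.det = 1 := by
    rw [hM, det_fin_three]
    simp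
    linear_combination hb'
  have hmul : ∀ v : Fin 3 → F, M *ᵥ v = ![a * v 0 + b * v 1, -(b ^ q) * v 0 + a ^ q * v 1, v 2] := by
    intro v
    ext i
    fin_cases i <;> simp [hM, Matrix.mulVec, dotProduct, Fin.sum_univ_three]
  have hherm : ∀ u v, hermForm 3 F q (M *ᵥ u) (M *ᵥ v) = hermForm 3 F q u v := by
    intro u v
    rw [hmul, hmul, herm_def, herm_def, Fin.sum_univ_three, Fin.sum_univ_three]
    have e1 : (a * v 0 + b * v 1) ^ q = a ^ q * v 0 ^ q + b ^ q * v 1 ^ q := by
      rw [add_pow_q hF, mul_pow, mul_pow]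
    have e2 : (-(b ^ q) * v 0 + a ^ q * v 1) ^ q = -b * v 0 ^ q + a * v 1 ^ q := by
      rw [add_pow_q hF, mul_pow, mul_pow, pow_q_pow_q hF, neg_pow_q hF, pow_q_pow_q hF]
    change (a * u 0 + b * u 1) * (a * v 0 + b * v 1) ^ q + (-(b ^ q) * u 0 + a ^ q * u 1) *
      (-(b ^ q) * v 0 + a ^ q * v 1) ^ q + u 2 * v 2 ^ q = _
    rw [e1, e2]
    linear_combination (u 0 * v 0 ^ q + u 1 * v 1 ^ q) * hb'
  refine ⟨mkSU M hdet hherm, ?_, ?_, rfl, rfl, rfl, rfl⟩
  · apply Subtype.ext
    apply Subtype.ext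
    have h2 : M * M = !![-a - 1, -b, 0; b ^ q, -(a ^ q) - 1, 0; 0, 0, 1] := by
      ext i j
      fin_cases i <;> fin_cases j <;> simp [hM, Matrix.mul_apply, Fin.sum_univ_three]
      · linear_combination a * ha - hb'
      · linear_combination b * ha
      · linear_combination -(b ^ q) * ha
      · linear_combination (a ^ q) * ha - hb'
    have h3 : M * M * M = 1 := by
      rw [h2]
      ext i j
      fin_cases i <;> fin_cases j <;> simp [hM, Matrix.mul_apply, Fin.sum_univ_three]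
      · linear_combination -a * ha + hb'
      · linear_combination -b * ha
      · linear_combination (b ^ q) * ha
      · linear_combination -(a ^ q) * ha + hb'
    rw [pow_succ, pow_two]
    exact h3
  · intro h
    obtain ⟨r, hr⟩ := eq_of_center_SU hF le_rfl h
    have hr' : M = diagonal fun _ => r := hr
    have h0 := congrFun (congrFun hr' 0) 0
    have h1 := congrFun (congrFun hr' 2) 2
    have h2 := congrFun (congrFun hr' 1) 1
    simp [hM] at h0 h1
    rw [h0, ← h1, one_pow] at ha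
    apply h3
    linear_combination ha

theorem psu3_one [Fintype F] (hF : Fintype.card F = q ^ 2) (h3 : ¬ 3 ∣ q + 1) (h3F : (3 : F) ≠ 0) :
    BigCent (PSU 3 F q) (q + 1) := by
  have hcard := card_NO hF
  obtain ⟨x, hx3, hx, e02, e12, e20, e21⟩ := exists_three hF h3F
  have hp : ∀ c : ↥(NO F q), ((c.1 : Fˣ) : F) * ((c.1 : Fˣ) : F) * ((((c⁻¹) ^ 2 : ↥(NO F q)).1 : Fˣ) : F) = 1 := fun c => by
    have : ((c.1 : Fˣ) : F) ≠ 0 := c.1.ne_zero
    simp
    field_simp
  let f : ↥(NO F q) →* SU 3 F q :=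
    { toFun := fun c => ud q ((c.1 : Fˣ) : F) ((c.1 : Fˣ) : F) ((((c⁻¹) ^ 2 : ↥(NO F q)).1 : Fˣ) : F) (hp c)
        (NO_spec c) (NO_spec c) (NO_spec _)
      map_one' := by
        rw [← ud_one (q := q) (F := F) (by simp) (one_pow _)]
        exact ud_congr _ _ _ _ _ _ _ _ (by simp) (by simp) (by simp)
      map_mul' := fun a b => by
        rw [ud_mul]
        exact ud_congr _ _ _ _ _ _ _ _ (by simp) (by simp) (by simp [mul_pow, mul_comm]) }
  rw [← hcard]
  refine BigCent.mk (x := x) ?_ hx f ?_ ?_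
  · rw [hx3]
    exact one_mem _
  · intro c hc
    have h := (ud_center (h := hp c) (ha := NO_spec c) (hb := NO_spec c) (hc := NO_spec _) hF hc).2
    have h1 : c ^ 3 = 1 := by
      apply Subtype.ext
      apply Units.ext
      have h2 : ((c.1 : Fˣ) : F) ≠ 0 := c.1.ne_zero
      have h4 : ((c.1 : Fˣ) : F) = (((c.1 : Fˣ) : F)⁻¹) ^ 2 := by simpa using h
      have h5 : ((c.1 : Fˣ) : F) ^ 3 = 1 := by
        calc ((c.1 : Fˣ) : F) ^ 3 = ((c.1 : Fˣ) : F) * ((c.1 : Fˣ) : F) ^ 2 := by ring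
          _ = (((c.1 : Fˣ) : F)⁻¹) ^ 2 * ((c.1 : Fˣ) : F) ^ 2 := by rw [← h4]
          _ = 1 := by rw [← mul_pow, inv_mul_cancel₀ h2, one_pow]
      simpa using h5
    have h6 : orderOf c ∣ 3 := orderOf_dvd_of_pow_eq_one h1
    have h7 : orderOf c ∣ q + 1 := by
      rw [← hcard]; exact orderOf_dvd_natCard c
    rcases (Nat.dvd_prime Nat.prime_three).1 h6 with h8 | h8
    · exact orderOf_eq_one_iff.1 h8
    · rw [h8] at h7
      exact absurd h7 h3
  · intro c
    apply Subtype.ext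
    apply Subtype.ext
    change diagonal _ * x.1.1 = x.1.1 * diagonal _
    ext i j
    rw [diagonal_mul, mul_diagonal]
    fin_cases i <;> fin_cases j <;> simp [e02, e12, e20, e21, mul_comm]

/-- elements of trace 0 -/
def T0 [Fintype F] (hF : Fintype.card F = q ^ 2) : AddSubgroup F where
  carrier := {μ | μ + μ ^ q = 0}
  zero_mem' := by
    change (0 : F) + 0 ^ q = 0
    rw [zero_pow_q hF, add_zero]
  add_mem' {a b} ha hb := by
    change a + b + (a + b) ^ q = 0
    rw [add_pow_q hF]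
    have ha' : a + a ^ q = 0 := ha
    have hb' : b + b ^ q = 0 := hb
    linear_combination ha' + hb'
  neg_mem' {a} ha := by
    change -a + (-a) ^ q = 0
    rw [neg_pow_q hF]
    have ha' : a + a ^ q = 0 := ha
    linear_combination -ha'

theorem card_T0 [Fintype F] (hF : Fintype.card F = q ^ 2) : Nat.card ↥(T0 hF) = q := by
  obtain ⟨x, hx0, hx⟩ := exists_trace_zero_ne hF
  have hxq : x ^ q = -x := (neg_eq_of_add_eq_zero_right hx).symm
  refine Eq.trans ?_ (card_fixed hF)
  apply Nat.card_congr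
  refine
    { toFun := fun μ => ⟨μ.1 * x⁻¹, ?_⟩
      invFun := fun y => ⟨y.1 * x, ?_⟩
      left_inv := fun μ => Subtype.ext (by simp [mul_assoc, inv_mul_cancel₀ hx0])
      right_inv := fun y => Subtype.ext (by simp [mul_assoc, mul_inv_cancel₀ hx0]) }
  · have h1 : μ.1 + μ.1 ^ q = 0 := μ.2
    have h2 : μ.1 ^ q = -μ.1 := (neg_eq_of_add_eq_zero_right h1).symm
    rw [mul_pow, inv_pow, hxq, h2, inv_neg, neg_mul_neg]
  · change y.1 * x + (y.1 * x) ^ q = 0
    rw [mul_pow, y.2, hxq]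
    ring

theorem psu [Fintype F] (hF : Fintype.card F = q ^ 2) {n : ℕ} (hn : 4 ≤ n) : BigCent (PSU n F q) q := by
  let i0 : Fin n := ⟨0, by omega⟩
  let i1 : Fin n := ⟨1, by omega⟩
  let i2 : Fin n := ⟨2, by omega⟩
  let i3 : Fin n := ⟨3, by omega⟩
  have h01 : i0 ≠ i1 := by simp [i0, i1]
  have h02 : i0 ≠ i2 := by simp [i0, i2]
  have h03 : i0 ≠ i3 := by simp [i0, i3]
  have h12 : i1 ≠ i2 := by simp [i1, i2]
  have h13 : i1 ≠ i3 := by simp [i1, i3]
  have h23 : i2 ≠ i3 := by simp [i2, i3]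
  have hq3 : (-3 : F) ^ q = -3 := by
    rw [neg_pow_q hF]
    have : (3 : F) = 1 + 1 + 1 := by norm_num
    rw [this, add_pow_q hF, add_pow_q hF, one_pow]
  obtain ⟨b, hb⟩ := exists_norm_eq hF hq3
  let σ : Equiv.Perm (Fin n) := Equiv.swap i0 i1 * Equiv.swap i1 i2
  have hσ : Equiv.Perm.sign σ = 1 := by
    rw [Equiv.Perm.sign_mul, Equiv.Perm.sign_swap h01, Equiv.Perm.sign_swap h12]
    norm_num
  have s0 : σ i0 = i1 := by
    change Equiv.swap i0 i1 (Equiv.swap i1 i2 i0) = i1
    rw [Equiv.swap_apply_of_ne_of_ne h01 h02, Equiv.swap_apply_left]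
  have s1 : σ i1 = i2 := by
    change Equiv.swap i0 i1 (Equiv.swap i1 i2 i1) = i2
    rw [Equiv.swap_apply_left, Equiv.swap_apply_of_ne_of_ne h02.symm h12.symm]
  have s2 : σ i2 = i0 := by
    change Equiv.swap i0 i1 (Equiv.swap i1 i2 i2) = i0
    rw [Equiv.swap_apply_right, Equiv.swap_apply_right]
  have s3 : ∀ j, j ≠ i0 → j ≠ i1 → j ≠ i2 → σ j = j := by
    intro j h0 h1 h2
    change Equiv.swap i0 i1 (Equiv.swap i1 i2 j) = j
    rw [Equiv.swap_apply_of_ne_of_ne h1 h2, Equiv.swap_apply_of_ne_of_ne h0 h1]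
  let u : Fin n → F := Pi.single i0 1 + Pi.single i1 1 + Pi.single i2 1 + Pi.single i3 b
  have u0 : u i0 = 1 := by simp [u, h01, h02, h03]
  have u1 : u i1 = 1 := by simp [u, h01.symm, h12, h13]
  have u2 : u i2 = 1 := by simp [u, h02.symm, h12.symm, h23]
  have u3 : u i3 = b := by simp [u, h03.symm, h13.symm, h23.symm]
  have hact : ∀ v : Fin n → F, act (suPerm q σ hσ : SU n F q) v = v ∘ σ := by
    intro v
    change σ.permMatrix F *ᵥ v = v ∘ σ
    rw [Matrix.permMatrix_mulVec]
  have hu : act (suPerm q σ hσ : SU n F q) u = u := by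
    rw [hact]
    funext j
    change u (σ j) = u j
    by_cases e0 : j = i0
    · rw [e0, s0, u0, u1]
    by_cases e1 : j = i1
    · rw [e1, s1, u1, u2]
    by_cases e2 : j = i2
    · rw [e2, s2, u0, u2]
    rw [s3 j e0 e1 e2]
  have hiso : hermForm n F q u u = 0 := by
    have : hermForm n F q u u = hermForm n F q (Pi.single i0 1 + Pi.single i1 1 + Pi.single i2 1 + Pi.single i3 b) u := rfl
    rw [this, herm_add_left, herm_add_left, herm_add_left, herm_single_left, herm_single_left, herm_single_left,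
      herm_single_left, u0, u1, u2, u3, one_pow]
    linear_combination hb
  have hsi : ∀ μ ∈ T0 hF, IsSiegel q u 0 μ := fun μ hμ =>
    ⟨hiso, herm_zero_left u, by rw [herm_zero_left, add_zero]; exact hμ⟩
  let f : Multiplicative ↥(T0 hF) →* SU n F q :=
    { toFun := fun μ => siegel hF u 0 (μ.toAdd : F) (hsi _ μ.toAdd.2)
      map_one' := siegel_zero hF _
      map_mul' := fun μ ν => by
        rw [siegel_mul]
        apply siegel_congr hF _ _ rfl (by simp)
        rw [herm_zero_left, sub_zero]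
        rfl }
  have hcard : Nat.card (Multiplicative ↥(T0 hF)) = q :=
    (Nat.card_congr Multiplicative.toAdd).trans (card_T0 hF)
  have key : BigCent (PSU n F q) (Nat.card (Multiplicative ↥(T0 hF))) := by
    refine BigCent.mk (x := (suPerm q σ hσ : SU n F q)) ?_ ?_ f ?_ ?_
    · have h : (suPerm q σ hσ : SU n F q) ^ 3 = 1 := by
        apply ext_act
        intro v
        rw [pow_succ, pow_two, act_mul, act_mul, act_one, hact, hact, hact]
        funext j
        change v (σ (σ (σ j))) = v j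
        by_cases e0 : j = i0
        · rw [e0, s0, s1, s2]
        by_cases e1 : j = i1
        · rw [e1, s1, s2, s0]
        by_cases e2 : j = i2
        · rw [e2, s2, s0, s1]
        rw [s3 j e0 e1 e2, s3 j e0 e1 e2, s3 j e0 e1 e2]
      rw [h]
      exact one_mem _
    · intro h
      obtain ⟨r, hr⟩ := eq_of_center_SU hF (by omega) h
      have h1 : act (suPerm q σ hσ : SU n F q) (Pi.single i1 1) i1 = r * 1 := by
        change (((suPerm q σ hσ : SU n F q).1.1) *ᵥ (Pi.single i1 1)) i1 = r * 1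
        rw [hr]
        simp
      have h2 : act (suPerm q σ hσ : SU n F q) (Pi.single i1 1) i0 = 0 := by
        change (((suPerm q σ hσ : SU n F q).1.1) *ᵥ (Pi.single i1 1)) i0 = 0
        rw [hr]
        simp [h01]
      rw [hact] at h2
      change (Pi.single i1 1 : Fin n → F) (σ i0) = 0 at h2
      rw [s0, Pi.single_eq_same] at h2
      exact one_ne_zero h2
    · intro μ hμ
      obtain ⟨r, hr⟩ := eq_of_center_SU hF (by omega) hμ
      have hsc : ∀ v : Fin n → F, act (f μ) v = r • v := by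
        intro v
        change (f μ).1.1 *ᵥ v = r • v
        rw [hr]
        ext i
        simp [Matrix.mulVec_diagonal]
      have hr1 : r = 1 := by
        have h1 : act (f μ) u = u := act_siegel_self hF (hsi _ μ.toAdd.2)
        rw [hsc] at h1
        have h2 := congrFun h1 i0
        rw [Pi.smul_apply, u0, smul_eq_mul, mul_one] at h2
        exact h2
      have h1 : act (f μ) (Pi.single i0 1) = Pi.single i0 1 := by rw [hsc, hr1, one_smul]
      have h2 : act (f μ) (Pi.single i0 1) = _ := act_siegel hF (hsi _ μ.toAdd.2) (Pi.single i0 1)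
      rw [h1, herm_single_left, u0, one_pow, mul_one, herm_zero_right hF, sub_zero, smul_zero, add_zero, mul_one] at h2
      have h3 := congrFun h2 i1
      rw [Pi.add_apply, Pi.smul_apply, u1, Pi.single_eq_of_ne h01.symm, zero_add, smul_eq_mul, mul_one] at h3
      apply Multiplicative.toAdd.injective
      exact Subtype.ext h3.symm
    · intro μ
      have h1 := conj_siegel hF (hsi _ μ.toAdd.2) (suPerm q σ hσ : SU n F q)
      have h2 : suPerm q σ hσ * f μ * (suPerm q σ hσ)⁻¹ = f μ := by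
        change suPerm q σ hσ * siegel hF u 0 (μ.toAdd : F) (hsi _ μ.toAdd.2) * (suPerm q σ hσ)⁻¹ =
          siegel hF u 0 (μ.toAdd : F) (hsi _ μ.toAdd.2)
        rw [h1]
        exact siegel_congr hF _ _ hu (act_zero _) rfl
      rw [mul_inv_eq_iff_eq_mul] at h2
      exact h2.symm
  rw [hcard] at key
  exact key

end Psu

end Cfsg.Agent.H435.Elts
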