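import Mathlib

/-!
# Two involutions in a group of order 12 and exponent 6 (helper435)
-/

set_option autoImplicit false

namespace Cfsg.Agent.H435.Klein

theorem exists_two {C : Type*} [Group C] [Finite C] (hC : 4 ∣ Nat.card C) (hexp : ∀ a : C, a ^ 6 = 1) :
    ∃ a b : C, orderOf a = 2 ∧ orderOf b = 2 ∧ a ≠ b := by
  obtain ⟨P, hP⟩ := Sylow.exists_subgroup_card_pow_prime (G := C) 2 (n := 2) (by simpa using hC)
  have hP4 : Nat.card P = 4 := hP
  have h2 : ∀ a ∈ P, a ^ 2 = 1 := by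
    intro a ha
    have h4 : a ^ 4 = 1 := by
      have : (⟨a, ha⟩ : P) ^ 4 = 1 := by rw [← hP4]; exact pow_card_eq_one'
      exact congrArg Subtype.val this
    calc a ^ 2 = a ^ 6 * (a ^ 4)⁻¹ := by group
      _ = 1 := by rw [hexp, h4, inv_one, mul_one]
  have h1 : ∃ a ∈ P, a ≠ 1 := by
    have : P ≠ ⊥ := by
      rintro rfl
      rw [Subgroup.card_bot] at hP4
      omega
    obtain ⟨a, ha, ha1⟩ := (Subgroup.bot_or_exists_ne_one P).resolve_left this
    exact ⟨a, ha, ha1⟩
  obtain ⟨a, ha, ha1⟩ := h1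
  have hoa : orderOf a = 2 := orderOf_eq_prime (h2 a ha) ha1
  have h3 : ∃ b ∈ P, b ∉ Subgroup.zpowers a := by
    by_contra hcon
    push Not at hcon
    have := Subgroup.card_dvd_of_le (show P ≤ Subgroup.zpowers a from hcon)
    rw [hP4, Nat.card_zpowers, hoa] at this
    norm_num at this
  obtain ⟨b, hb, hba⟩ := h3
  refine ⟨a, b, hoa, orderOf_eq_prime (h2 b hb) ?_, ?_⟩
  · rintro rfl
    exact hba (one_mem _)
  · rintro rfl
    exact hba (Subgroup.mem_zpowers _)

end Cfsg.Agent.H435.Klein
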