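import Cfsg.Agent.H435.Cases

/-!
# Orders of `PSL_n(q)` and `PSU_n(q)`: divisibility and small ranks (helper435)
-/

set_option autoImplicit false

namespace Cfsg.Agent.H435.Ord

open Cfsg Cfsg.Agent.H435.Cases

variable {F : Type*} [Field F] [Fintype F]

theorem sub_eq (q a b : ℕ) : q ^ (a + b) - q ^ a = q ^ a * (q ^ b - 1) := by
  rw [pow_add, Nat.mul_sub, mul_one]

theorem sub_one_mul (q : ℕ) : q ^ 2 - 1 = (q - 1) * (q + 1) := by
  have := Nat.sq_sub_sq q 1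
  rw [one_pow] at this
  rw [this, mul_comm]

/-- cancel `q - 1` (or `q + 1`) and the gcd -/
theorem cancel {g d c A R : ℕ} (hd : 0 < d) (hg : g ∣ A) (hg0 : 0 < g) (h : g * (d * c) = A * (d * R)) : R ∣ c := by
  obtain ⟨s, rfl⟩ := hg
  have h1 : (g * d) * c = (g * d) * (s * R) := by
    rw [show (g * d) * c = g * (d * c) by ring, h]; ring
  have h2 := Nat.eq_of_mul_eq_mul_left (Nat.mul_pos hg0 hd) h1
  exact ⟨s, by rw [h2, mul_comm]⟩

theorem psl_dvd {n : ℕ} (hn : 4 ≤ n) :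
    Fintype.card F ^ 6 * ((Fintype.card F ^ 3 - 1) * (Fintype.card F ^ 4 - 1)) ∣
      Nat.card (Matrix.ProjectiveSpecialLinearGroup (Fin n) F) := by
  obtain ⟨k, rfl⟩ : ∃ k, n = k + 4 := ⟨n - 4, by omega⟩
  have h := S0243.result (F := F) rfl (k + 4) (by omega)
  have hq : 1 < Fintype.card F := Fintype.one_lt_card
  generalize Fintype.card F = q at *
  rw [Fin.prod_univ_castSucc, Fin.prod_univ_castSucc, Fin.prod_univ_castSucc, Fin.prod_univ_castSucc] at h
  simp only [Fin.val_castSucc, Fin.val_last] at h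
  rw [sub_eq q k 4, show k + 4 = (k + 1) + 3 by ring, sub_eq q (k + 1) 3, show (k + 1) + 3 = (k + 2) + 2 by ring,
    sub_eq q (k + 2) 2, show (k + 2) + 2 = (k + 3) + 1 by ring, sub_eq q (k + 3) 1, pow_one] at h
  set P := ∏ i : Fin k, (q ^ (k + 3 + 1) - q ^ (i : ℕ)) with hP
  have hg : Nat.gcd (k + 3 + 1) (q - 1) ∣ q ^ 2 - 1 := by
    rw [sub_one_mul]
    exact (Nat.gcd_dvd_right _ _).mul_right _
  have h1 : Nat.gcd (k + 3 + 1) (q - 1) * ((q - 1) * Nat.card (Matrix.ProjectiveSpecialLinearGroup (Fin (k + 3 + 1)) F)) =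
      (q ^ 2 - 1) * ((q - 1) * (P * (q ^ k * (q ^ 4 - 1)) * (q ^ (k + 1) * (q ^ 3 - 1)) * q ^ (k + 2) *
        q ^ (k + 3))) := by
    rw [h]; ring
  have h2 := cancel (by omega) hg (Nat.gcd_pos_of_pos_left _ (by omega)) h1
  refine Dvd.dvd.trans ?_ h2
  refine ⟨P * q ^ (4 * k), ?_⟩
  ring

theorem psu_dvd {n q : ℕ} (hF : Fintype.card F = q ^ 2) (hn : 4 ≤ n) :
    q ^ (n * (n - 1) / 2) * ((q ^ 3 + 1) * (q ^ 4 - 1)) ∣ Nat.card (PSU n F q) := by
  have h := S0280.result hF n (by omega)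
  obtain ⟨k, rfl⟩ : ∃ k, n = 4 + k := ⟨n - 4, by omega⟩
  rw [Finset.prod_range_add] at h
  have h4 : (∏ x ∈ Finset.range 4, if Even x then q ^ (x + 1) + 1 else q ^ (x + 1) - 1) =
      (q + 1) * (q ^ 2 - 1) * (q ^ 3 + 1) * (q ^ 4 - 1) := by
    simp only [Finset.prod_range_succ, Finset.prod_range_zero]
    norm_num [Nat.even_iff]
  rw [h4] at h
  set P := ∏ x ∈ Finset.range k, if Even (4 + x) then q ^ (4 + x + 1) + 1 else q ^ (4 + x + 1) - 1 with hP
  have hg : Nat.gcd (4 + k) (q + 1) ∣ q ^ 2 - 1 := by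
    rw [sub_one_mul]
    exact (Nat.gcd_dvd_right _ _).mul_left _
  have h1 : Nat.gcd (4 + k) (q + 1) * ((q + 1) * Nat.card (PSU (4 + k) F q)) =
      (q ^ 2 - 1) * ((q + 1) * (q ^ ((4 + k) * (4 + k - 1) / 2) * ((q ^ 3 + 1) * (q ^ 4 - 1)) * P)) := by
    rw [h]; ring
  have h2 := cancel (by omega) hg (Nat.gcd_pos_of_pos_left _ (by omega)) h1
  exact (Dvd.intro _ rfl).trans h2

theorem psl3_card : Nat.gcd 3 (Fintype.card F - 1) * Nat.card (Matrix.ProjectiveSpecialLinearGroup (Fin 3) F) =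
    Fintype.card F ^ 3 * ((Fintype.card F ^ 2 - 1) * (Fintype.card F ^ 3 - 1)) := by
  have h := S0243.result (F := F) rfl 3 (by omega)
  have hq : 1 < Fintype.card F := Fintype.one_lt_card
  generalize Fintype.card F = q at *
  rw [Fin.prod_univ_three] at h
  simp only [Fin.val_zero, Fin.val_one, Fin.val_two, pow_zero] at h
  rw [show (3 : ℕ) = 1 + 2 by norm_num, sub_eq q 1 2, show (1 : ℕ) + 2 = 2 + 1 by norm_num, sub_eq q 2 1, pow_one] at h
  refine Nat.eq_of_mul_eq_mul_left (show 0 < q - 1 by omega) ?_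
  rw [show (2 : ℕ) + 1 = 3 by norm_num] at h
  linarith

theorem psl2_card : Nat.gcd 2 (Fintype.card F - 1) * Nat.card (Matrix.ProjectiveSpecialLinearGroup (Fin 2) F) =
    Fintype.card F * (Fintype.card F ^ 2 - 1) := by
  have h := S0243.result (F := F) rfl 2 (by omega)
  have hq : 1 < Fintype.card F := Fintype.one_lt_card
  generalize Fintype.card F = q at *
  rw [Fin.prod_univ_two] at h
  simp only [Fin.val_zero, Fin.val_one, pow_zero] at h
  rw [show (2 : ℕ) = 1 + 1 by norm_num, sub_eq q 1 1, pow_one] at h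
  refine Nat.eq_of_mul_eq_mul_left (show 0 < q - 1 by omega) ?_
  rw [show (1 : ℕ) + 1 = 2 by norm_num] at h
  linarith

theorem psu3_card {q : ℕ} (hF : Fintype.card F = q ^ 2) :
    Nat.gcd 3 (q + 1) * Nat.card (PSU 3 F q) = q ^ 3 * ((q ^ 2 - 1) * (q ^ 3 + 1)) := by
  have h := S0280.result hF 3 (by omega)
  have h4 : (∏ x ∈ Finset.range 3, if Even x then q ^ (x + 1) + 1 else q ^ (x + 1) - 1) =
      (q + 1) * (q ^ 2 - 1) * (q ^ 3 + 1) := by
    simp only [Finset.prod_range_succ, Finset.prod_range_zero]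
    norm_num [Nat.even_iff]
  rw [h4] at h
  refine Nat.eq_of_mul_eq_mul_left (show 0 < q + 1 by omega) ?_
  norm_num at h
  linarith

theorem psl5 {n : ℕ} (hn : 4 ≤ n) : 5 ∣ Nat.card (Matrix.ProjectiveSpecialLinearGroup (Fin n) F) := by
  refine Dvd.dvd.trans ?_ (psl_dvd (F := F) hn)
  by_cases h : 5 ∣ Fintype.card F
  · exact Dvd.dvd.mul_right (h.trans (dvd_pow_self _ (by norm_num))) _
  · exact Dvd.dvd.mul_left (Dvd.dvd.mul_left (five_dvd h 1) _) _

theorem psu5 {n q : ℕ} (hF : Fintype.card F = q ^ 2) (hn : 4 ≤ n) : 5 ∣ Nat.card (PSU n F q) := by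
  refine Dvd.dvd.trans ?_ (psu_dvd hF hn)
  by_cases h : 5 ∣ q
  · refine Dvd.dvd.mul_right (h.trans (dvd_pow_self _ ?_)) _
    have : 4 * 3 ≤ n * (n - 1) := Nat.mul_le_mul hn (by omega)
    omega
  · exact Dvd.dvd.mul_left (Dvd.dvd.mul_left (five_dvd h 1) _) _

/-- **The finite simple groups whose order is divisible by 3 but not by 5 or 9.** -/
theorem not45 {G : Type*} [Group G] [Finite G] [IsSimpleGroup G] (hna : ¬ IsMulCommutative G)
    (h5 : ¬ 5 ∣ Nat.card G) (h9 : ¬ 9 ∣ Nat.card G) (h3 : 3 ∣ Nat.card G) :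
    (∃ (F : Type) (_ : Field F) (_ : Fintype F), 4 ≤ Fintype.card F ∧
      Nonempty (G ≃* Matrix.ProjectiveSpecialLinearGroup (Fin 2) F)) ∨
    (∃ (F : Type) (_ : Field F) (_ : Fintype F), Fintype.card F % 3 = 2 ∧
      Nonempty (G ≃* Matrix.ProjectiveSpecialLinearGroup (Fin 3) F)) ∨
    (∃ (F : Type) (_ : Field F) (_ : Fintype F) (q : ℕ), Fintype.card F = q ^ 2 ∧ q % 3 = 1 ∧
      Nonempty (G ≃* PSU 3 F q)) := by
  rcases not27 hna (fun h => h9 (Dvd.dvd.trans (by norm_num) h)) h3 with h | h | h | h | h | h | h | h | h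
  · obtain ⟨n, hn, -, ⟨e⟩⟩ := h
    exact absurd (fact5 hn (alt_card hn e)) h5
  · obtain ⟨F, _, _, n, hn, hn2, ⟨e⟩⟩ := h
    have h4 : ¬ 4 ≤ n := fun h => h5 (by rw [Nat.card_congr e.toEquiv]; exact psl5 h)
    obtain rfl | rfl : n = 2 ∨ n = 3 := by omega
    · exact Or.inl ⟨F, inferInstance, inferInstance, hn2 rfl, ⟨e⟩⟩
    · refine Or.inr (Or.inl ⟨F, inferInstance, inferInstance, ?_, ⟨e⟩⟩)
      have hc := psl3_card (F := F)
      rw [← Nat.card_congr e.toEquiv] at hc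
      have hq : 1 < Fintype.card F := Fintype.one_lt_card
      generalize Fintype.card F = q at *
      by_contra h2
      have : q % 3 = 0 ∨ q % 3 = 1 := by omega
      rcases this with h0 | h1
      · have h27 : 27 ∣ q ^ 3 := by
          obtain ⟨r, rfl⟩ := Nat.dvd_of_mod_eq_zero h0
          exact ⟨r ^ 3, by ring⟩
        have h27' : 27 ∣ Nat.gcd 3 (q - 1) * Nat.card G := by
          rw [hc]; exact h27.mul_right _
        have hg : Nat.gcd 3 (q - 1) = 1 := by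
          rw [← Nat.coprime_iff_gcd_eq_one, Nat.Prime.coprime_iff_not_dvd Nat.prime_three]
          omega
        rw [hg, one_mul] at h27'
        exact h9 (Dvd.dvd.trans (by norm_num) h27')
      · have h27' : 27 ∣ Nat.gcd 3 (q - 1) * Nat.card G := by
          rw [hc]
          apply Dvd.dvd.mul_left
          obtain ⟨r, rfl⟩ : ∃ r, q = 3 * r + 1 := ⟨q / 3, by omega⟩
          have e1 : (3 * r + 1) ^ 2 - 1 = 3 * (3 * r ^ 2 + 2 * r) := by
            rw [show (3 * r + 1) ^ 2 = 3 * (3 * r ^ 2 + 2 * r) + 1 by ring, Nat.add_sub_cancel]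
          have e2 : (3 * r + 1) ^ 3 - 1 = 9 * (3 * r ^ 3 + 3 * r ^ 2 + r) := by
            rw [show (3 * r + 1) ^ 3 = 9 * (3 * r ^ 3 + 3 * r ^ 2 + r) + 1 by ring, Nat.add_sub_cancel]
          rw [e1, e2]
          exact ⟨(3 * r ^ 2 + 2 * r) * (3 * r ^ 3 + 3 * r ^ 2 + r), by ring⟩
        rcases (Nat.dvd_prime Nat.prime_three).1 (Nat.gcd_dvd_left 3 (q - 1)) with hg | hg
        · rw [hg] at h27'; omega
        · rw [hg] at h27'; omega
  · obtain ⟨F, _, _, hq, ⟨e⟩⟩ := h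
    exact absurd (by rw [Nat.card_congr e.toEquiv]; exact psp5 le_rfl) h5
  · obtain ⟨F, _, _, n, q, hF, hn, hn2, ⟨e⟩⟩ := h
    have h4 : ¬ 4 ≤ n := fun h => h5 (by rw [Nat.card_congr e.toEquiv]; exact psu5 hF h)
    obtain rfl : n = 3 := by omega
    refine Or.inr (Or.inr ⟨F, inferInstance, inferInstance, q, hF, ?_, ⟨e⟩⟩)
    have hc := psu3_card hF
    rw [← Nat.card_congr e.toEquiv] at hc
    by_contra h2
    have : q % 3 = 0 ∨ q % 3 = 2 := by omega
    rcases this with h0 | h1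
    · have h27 : 27 ∣ q ^ 3 := by
        obtain ⟨r, rfl⟩ := Nat.dvd_of_mod_eq_zero h0
        exact ⟨r ^ 3, by ring⟩
      have h27' : 27 ∣ Nat.gcd 3 (q + 1) * Nat.card G := by
        rw [hc]; exact h27.mul_right _
      have hg : Nat.gcd 3 (q + 1) = 1 := by
        rw [← Nat.coprime_iff_gcd_eq_one, Nat.Prime.coprime_iff_not_dvd Nat.prime_three]
        omega
      rw [hg, one_mul] at h27'
      exact h9 (Dvd.dvd.trans (by norm_num) h27')
    · have h27' : 27 ∣ Nat.gcd 3 (q + 1) * Nat.card G := by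
        rw [hc]
        apply Dvd.dvd.mul_left
        obtain ⟨r, rfl⟩ : ∃ r, q = 3 * r + 2 := ⟨q / 3, by omega⟩
        have e1 : (3 * r + 2) ^ 2 - 1 = 3 * (3 * r ^ 2 + 4 * r + 1) := by
          rw [show (3 * r + 2) ^ 2 = 3 * (3 * r ^ 2 + 4 * r + 1) + 1 by ring, Nat.add_sub_cancel]
        have e2 : (3 * r + 2) ^ 3 + 1 = 9 * (3 * r ^ 3 + 6 * r ^ 2 + 4 * r + 1) := by ring
        rw [e1, e2]
        exact ⟨(3 * r ^ 2 + 4 * r + 1) * (3 * r ^ 3 + 6 * r ^ 2 + 4 * r + 1), by ring⟩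
      rcases (Nat.dvd_prime Nat.prime_three).1 (Nat.gcd_dvd_left 3 (q + 1)) with hg | hg
      · rw [hg] at h27'; omega
      · rw [hg] at h27'; omega
  all_goals
    rw [h.2] at h5
    norm_num at h5

end Cfsg.Agent.H435.Ord
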