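import Cfsg.Agent.GH.L2Aut

/-!
# Groups between `PSL₂(p)` and its automorphism group (helper435)
-/

set_option autoImplicit false

namespace Cfsg.Agent.H435.Pgl

open Subgroup Cfsg.Agent.GH.L2Aut

theorem isSquare_mul {F : Type*} [Field F] [Finite F] {a b : F} (ha : ¬ IsSquare a) (hb : ¬ IsSquare b) :
    IsSquare (a * b) := by
  classical
  have := Fintype.ofFinite F
  have h0 : a * b ≠ 0 := by
    intro h
    rcases mul_eq_zero.1 h with h | h
    · exact ha (h ▸ IsSquare.zero)
    · exact hb (h ▸ IsSquare.zero)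
  rw [← quadraticChar_one_iff_isSquare h0, map_mul, quadraticChar_neg_one_iff_not_isSquare.2 ha,
    quadraticChar_neg_one_iff_not_isSquare.2 hb]
  norm_num

/-- `GL₂(F) / Z` is the automorphism group if `F` has no automorphisms -/
theorem autEquiv {F : Type*} [Field F] [Finite F] {L : Type*} [Group L] (R : GH.L2Aut.Rep F L)
    (hF : ∀ σ : F ≃+* F, σ = 1) : Nonempty (GL (Fin 2) F ⧸ Subgroup.center (GL (Fin 2) F) ≃* MulAut L) ∧
      ∀ α : MulAut L, ∃ g : GL (Fin 2) F, α = R.gl g := by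
  have hsurj : ∀ α : MulAut L, ∃ g : GL (Fin 2) F, α = R.gl g := by
    intro α
    obtain ⟨g, hg⟩ := R.exists_eq α
    rw [hF (R.fld α), map_one, mul_one] at hg
    exact ⟨g, hg⟩
  refine ⟨?_, hsurj⟩
  have hker : R.gl.ker = Subgroup.center (GL (Fin 2) F) := by
    ext g
    rw [MonoidHom.mem_ker]
    constructor
    · intro h
      obtain ⟨c, hc⟩ := R.gl_eq_one_iff.1 h
      rw [Subgroup.mem_center_iff]
      intro x
      apply Units.ext
      rw [Units.val_mul, Units.val_mul, hc, mul_smul_comm, smul_mul_assoc, mul_one, one_mul]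
    · intro h
      apply R.ext_π
      intro x
      rw [R.gl_apply]
      have h1 : Cfsg.Agent.Lib.SL2Mat.conjGL g x = x := by
        apply Subtype.ext
        have h2 : g * Matrix.SpecialLinearGroup.toGL x * g⁻¹ = Matrix.SpecialLinearGroup.toGL x := by
          rw [← Subgroup.mem_center_iff.1 h, mul_inv_cancel_right]
        exact congrArg Units.val h2
      rw [h1]
      rfl
  have hs : Function.Surjective R.gl := fun α => by
    obtain ⟨g, hg⟩ := hsurj α
    exact ⟨g, hg.symm⟩
  exact ⟨(QuotientGroup.quotientMulEquivOfEq hker.symm).trans (QuotientGroup.quotientKerEquivOfSurjective _ hs)⟩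

theorem exists_pgl {H : Type*} [Group H] {L : Subgroup H} [L.Normal]
    (hC : centralizer (L : Set H) = ⊥) {F : Type*} [Field F] [Finite F] (h2 : (2 : F) ≠ 0)
    (hF : ∀ σ : F ≃+* F, σ = 1) (e : L ≃* Matrix.ProjectiveSpecialLinearGroup (Fin 2) F) :
    L = ⊤ ∨ (L.index = 2 ∧ Nonempty (H ≃* (GL (Fin 2) F ⧸ Subgroup.center (GL (Fin 2) F)))) := by
  let R : GH.L2Aut.Rep F L := GH.L2Aut.Rep.ofEquiv h2 e
  obtain ⟨⟨E⟩, hgl⟩ := autEquiv R hF
  let φ : H →* MulAut L := MulAut.conjNormal
  have hφ : ∀ (h : H) (l : L), ((φ h l : L) : H) = h * l * h⁻¹ := fun h l => rfl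
  have hinj : Function.Injective φ := by
    rw [injective_iff_map_eq_one]
    intro h hh
    have h1 : h ∈ centralizer (L : Set H) := by
      rw [mem_centralizer_iff]
      intro l hl
      have h3 := hφ h ⟨l, hl⟩
      rw [hh] at h3
      have h4 : l = h * l * h⁻¹ := h3
      nth_rw 1 [h4]
      group
    rw [hC] at h1
    exact mem_bot.1 h1
  have hφL : ∀ l : L, φ l = MulAut.conj l := fun l => by
    ext m
    rfl
  have hmem : ∀ h : H, φ h ∈ (MulAut.conj : L →* MulAut L).range → h ∈ L := by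
    rintro h ⟨l, hl⟩
    rw [← hφL] at hl
    rw [← hinj hl]
    exact l.2
  by_cases htop : L = ⊤
  · exact Or.inl htop
  right
  obtain ⟨a, ha⟩ : ∃ a, a ∉ L := by
    by_contra hcon
    push Not at hcon
    exact htop (eq_top_iff.2 fun g _ => hcon g)
  obtain ⟨ga, hga⟩ := hgl (φ a)
  have hns : ∀ h : H, h ∉ L → ∀ g : GL (Fin 2) F, φ h = R.gl g → ¬ IsSquare g.1.det := by
    intro h hh g hg hsq
    exact hh (hmem h (by rw [hg]; exact R.gl_mem_inn.2 hsq))
  constructor
  · rw [index_eq_two_iff]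
    refine ⟨a, fun b => ?_⟩
    by_cases hb : b ∈ L
    · refine Or.inr ⟨hb, fun hba => ha ?_⟩
      have := L.mul_mem (L.inv_mem hb) hba
      rwa [inv_mul_cancel_left] at this
    · refine Or.inl ⟨?_, hb⟩
      obtain ⟨gb, hgb⟩ := hgl (φ b)
      apply hmem
      rw [map_mul, hga, hgb, ← map_mul R.gl]
      apply R.gl_mem_inn.2
      rw [Units.val_mul, Matrix.det_mul]
      exact isSquare_mul (hns b hb gb hgb) (hns a ha ga hga)
  · have hsurj : Function.Surjective φ := by
      intro α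
      obtain ⟨g, hg⟩ := hgl α
      by_cases hsq : IsSquare g.1.det
      · obtain ⟨l, hl⟩ := R.gl_mem_inn.2 hsq
        exact ⟨l, by rw [hφL, hl, hg]⟩
      · have h3 : IsSquare (g * ga).1.det := by
          rw [Units.val_mul, Matrix.det_mul]
          exact isSquare_mul hsq (hns a ha ga hga)
        obtain ⟨l, hl⟩ := R.gl_mem_inn.2 h3
        refine ⟨l * a⁻¹, ?_⟩
        rw [map_mul φ, map_inv φ, hφL, hl, map_mul R.gl, ← hga, mul_inv_cancel_right, hg]
    exact ⟨(MulEquiv.ofBijective φ ⟨hinj, hsurj⟩).trans E.symm⟩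

end Cfsg.Agent.H435.Pgl
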