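import Cfsg.Agent.H435.Three
import Cfsg.Agent.Lib.Cores
import Cfsg.Agent.Lib.DihedralRecog

/-!
# Groups with trivial `O_{3'}` and Sylow 3-subgroups of order 3 (helper435)
-/

set_option autoImplicit false

namespace Cfsg.Agent.H435.Quot

open Cfsg Subgroup Cfsg.Agent.H435 Cfsg.Agent.Lib.Cores

variable {H : Type*} [Group H] [Finite H]

/-- a normal subgroup of order divisible by 3 contains the elements of order 3 -/
theorem mem_of_normal (h9 : ¬ 9 ∣ Nat.card H) {N : Subgroup H} (hN : N.Normal) (h3 : 3 ∣ Nat.card N) {y : H}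
    (hy : orderOf y = 3) : y ∈ N := by
  obtain ⟨z, hz⟩ := exists_prime_orderOf_dvd_card' (G := N) 3 h3
  obtain ⟨g, hg⟩ := Three.exists_conj h9 (x := (z : H)) (y := y) (by rw [Subgroup.orderOf_coe, hz]) hy
  have h1 : zpowers (g * z * g⁻¹) ≤ N := by
    rw [zpowers_le]
    exact hN.conj_mem _ z.2 g
  exact h1 (by rw [hg]; exact mem_zpowers y)

theorem nine_sub (h9 : ¬ 9 ∣ Nat.card H) (L : Subgroup H) : ¬ 9 ∣ Nat.card L :=
  fun h => h9 (h.trans (card_subgroup_dvd_card L))

/-- the normal closure of an element of order 3 is simple -/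
theorem simple (h9 : ¬ 9 ∣ Nat.card H) (hO : pPrimeCore 3 H = ⊥) {y : H} (hy : orderOf y = 3) :
    IsSimpleGroup ↥(normalClosure ({y} : Set H)) := by
  set L := normalClosure ({y} : Set H) with hL
  have hLn : L.Normal := normalClosure_normal
  have hyL : y ∈ L := subset_normalClosure rfl
  have hy1 : y ≠ 1 := by
    rintro rfl
    rw [orderOf_one] at hy
    omega
  have : Nontrivial L := ⟨⟨⟨y, hyL⟩, 1, fun h => hy1 (congrArg Subtype.val h)⟩⟩
  refine ⟨fun N hN => ?_⟩
  by_cases h3 : 3 ∣ Nat.card N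
  · right
    rw [eq_top_iff]
    have h1 : L ≤ N.map L.subtype := by
      have h2 : ∀ g : H, g * y * g⁻¹ ∈ N.map L.subtype := by
        intro g
        have hgy : g * y * g⁻¹ ∈ L := hLn.conj_mem _ hyL g
        have h3 : (⟨g * y * g⁻¹, hgy⟩ : L) ∈ N := by
          refine mem_of_normal (nine_sub h9 L) hN h3 ?_
          rw [← Subgroup.orderOf_coe]
          change orderOf (MulAut.conj g y) = 3
          rw [MulEquiv.orderOf_eq, hy]
        exact ⟨_, h3, rfl⟩
      refine (closure_le _).2 ?_
      intro z hz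
      obtain ⟨g, hg⟩ : ∃ g : H, g * y * g⁻¹ = z := by
        simpa [Group.conjugatesOfSet, conjugatesOf, isConj_iff] using hz
      rw [← hg]
      exact h2 g
    intro z _
    obtain ⟨w, hw, hwz⟩ := h1 z.2
    have : w = z := Subtype.ext hwz
    rwa [this] at hw
  · left
    have h1 : N ≤ pPrimeCore 3 L := le_pPrimeCore hN
      ((Nat.Prime.coprime_iff_not_dvd Nat.prime_three).2 h3).symm
    have h2 := map_subtype_pPrimeCore 3 hLn
    rw [hO, inf_bot_eq] at h2
    have h3 : pPrimeCore 3 L = ⊥ := by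
      rw [eq_bot_iff]
      intro z hz
      have h4 : L.subtype z ∈ (pPrimeCore 3 L).map L.subtype := mem_map_of_mem _ hz
      rw [h2, mem_bot] at h4
      exact mem_bot.2 (Subtype.ext h4)
    rw [eq_bot_iff, ← h3]
    exact h1

/-- Burnside: in a simple nonabelian group with Sylow 3-subgroups of order 3 an element of order 3 is inverted -/
theorem exists_invert {L : Type*} [Group L] [Finite L] [IsSimpleGroup L] (hna : ¬ IsMulCommutative L)
    (h9 : ¬ 9 ∣ Nat.card L) {y : L} (hy : orderOf y = 3) : ∃ g : L, g * y * g⁻¹ = y⁻¹ := by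
  classical
  by_contra hcon
  push Not at hcon
  have h3 : 3 ∣ Nat.card L := by rw [← hy]; exact orderOf_dvd_natCard y
  have hf := Three.factorization h9 h3
  let P : Sylow 3 L := Sylow.ofCard (zpowers y) (by rw [Nat.card_zpowers, hy, hf, pow_one])
  have hP : (P : Subgroup L) = zpowers y := rfl
  have hNC : normalizer ((P : Subgroup L) : Set L) ≤ centralizer ((P : Subgroup L) : Set L) := by
    intro g hg
    have h1 : g * y * g⁻¹ ∈ zpowers y := by
      have := (mem_normalizer_iff.1 hg y).1 (by rw [hP]; exact mem_zpowers y)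
      rwa [hP] at this
    have h2 : g * y * g⁻¹ = y := by
      obtain ⟨n, hn, hn2⟩ := (mem_zpowers_iff_mem_range_orderOf.1 h1 |> Finset.mem_image.1)
      rw [Finset.mem_range, hy] at hn
      interval_cases n
      · exfalso
        simp only [pow_zero] at hn2
        have : y = 1 := by
          have h4 : y = g⁻¹ * (g * y * g⁻¹) * g := by group
          rw [h4, ← hn2, mul_one, inv_mul_cancel]
        rw [this, orderOf_one] at hy
        omega
      · simp only [pow_one] at hn2
        exact hn2.symm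
      · exfalso
        apply hcon g
        rw [← hn2]
        have h4 : y ^ 3 = 1 := by rw [← hy]; exact pow_orderOf_eq_one y
        rw [eq_inv_iff_mul_eq_one, ← pow_succ]
        exact h4
    have h5 : g ∈ centralizer ({y} : Set L) := by
      rw [mem_centralizer_singleton_iff]
      exact mul_inv_eq_iff_eq_mul.1 h2
    rw [hP, Three.centralizer_zpowers]
    exact h5
  have hcomp := MonoidHom.ker_transferSylow_isComplement' P hNC
  have hdiv := MonoidHom.not_dvd_card_ker_transferSylow P hNC
  rcases (MonoidHom.normal_ker (MonoidHom.transferSylow P hNC)).eq_bot_or_eq_top with h | h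
  · have h1 := hcomp.card_mul
    rw [h, card_bot, one_mul, hP, Nat.card_zpowers, hy] at h1
    have : Fact (Nat.Prime 3) := ⟨Nat.prime_three⟩
    have : IsCyclic L := isCyclic_of_prime_card (p := 3) h1.symm
    exact hna (IsCyclic.isMulCommutative (α := L))
  · rw [h, card_top] at hdiv
    exact hdiv h3

/-- an element of `⟨y⟩` conjugate to `y` (of order 3) is `y` or `y⁻¹` -/
theorem eq_or_inv {y g : H} (hy : orderOf y = 3) (h1 : g * y * g⁻¹ ∈ zpowers y) :
    g * y * g⁻¹ = y ∨ g * y * g⁻¹ = y⁻¹ := by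
  classical
  obtain ⟨n, hn, hn2⟩ := (mem_zpowers_iff_mem_range_orderOf.1 h1 |> Finset.mem_image.1)
  rw [Finset.mem_range, hy] at hn
  interval_cases n
  · exfalso
    simp only [pow_zero] at hn2
    have : y = 1 := by
      have h4 : y = g⁻¹ * (g * y * g⁻¹) * g := by group
      rw [h4, ← hn2, mul_one, inv_mul_cancel]
    rw [this, orderOf_one] at hy
    omega
  · simp only [pow_one] at hn2
    exact Or.inl hn2.symm
  · right
    rw [← hn2]
    have h4 : y ^ 3 = 1 := by rw [← hy]; exact pow_orderOf_eq_one y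
    rw [eq_inv_iff_mul_eq_one, ← pow_succ]
    exact h4

/-- no 3'-part in a normal subgroup -/
theorem core_sub (hO : pPrimeCore 3 H = ⊥) {C : Subgroup H} (hC : C.Normal) : pPrimeCore 3 C = ⊥ := by
  have h2 := map_subtype_pPrimeCore 3 hC
  rw [hO, inf_bot_eq] at h2
  rw [eq_bot_iff]
  intro z hz
  have h4 : C.subtype z ∈ (pPrimeCore 3 C).map C.subtype := mem_map_of_mem _ hz
  rw [h2, mem_bot] at h4
  exact mem_bot.2 (Subtype.ext h4)

theorem case_comm (h9 : ¬ 9 ∣ Nat.card H) (hO : pPrimeCore 3 H = ⊥) {y : H} (hy : orderOf y = 3)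
    (hc : IsMulCommutative ↥(normalClosure ({y} : Set H))) :
    Nat.card H = 3 ∨ Nonempty (H ≃* DihedralGroup 3) := by
  have hs := simple h9 hO hy
  set L := normalClosure ({y} : Set H) with hL
  have hLn : L.Normal := normalClosure_normal
  have hyL : y ∈ L := subset_normalClosure rfl
  have hy1 : y ≠ 1 := by
    rintro rfl
    rw [orderOf_one] at hy
    omega
  have hZ : zpowers (⟨y, hyL⟩ : L) = ⊤ := by
    have hn : (zpowers (⟨y, hyL⟩ : L)).Normal := by
      refine ⟨fun n hn g => ?_⟩
      have : g * n * g⁻¹ = n := by rw [hc.is_comm.comm g n, mul_inv_cancel_right]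
      rwa [this]
    refine (hn.eq_bot_or_eq_top).resolve_left ?_
    intro h
    rw [zpowers_eq_bot] at h
    exact hy1 (congrArg Subtype.val h)
  have hLz : L = zpowers y := by
    apply le_antisymm
    · intro z hz
      have : (⟨z, hz⟩ : L) ∈ zpowers (⟨y, hyL⟩ : L) := by rw [hZ]; exact mem_top _
      obtain ⟨k, hk⟩ := mem_zpowers_iff.1 this
      exact mem_zpowers_iff.2 ⟨k, congrArg Subtype.val hk⟩
    · rw [zpowers_le]; exact hyL
  set C := centralizer ({y} : Set H) with hC
  have hCn : C.Normal := by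
    have h1 : C = centralizer (L : Set H) := by rw [hLz, Three.centralizer_zpowers]
    rw [h1]
    infer_instance
  have hyC : y ∈ C := mem_centralizer_singleton_iff.2 rfl
  have hcentral : ∀ c : C, c * ⟨y, hyC⟩ = ⟨y, hyC⟩ * c := fun c =>
    Subtype.ext (mem_centralizer_singleton_iff.1 c.2)
  have hyo : orderOf (⟨y, hyC⟩ : C) = 3 := by rw [← Subgroup.orderOf_coe]; exact hy
  have h3C : 3 ∣ Nat.card C := by rw [← hyo]; exact orderOf_dvd_natCard _
  have hf := Three.factorization (nine_sub h9 C) h3C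
  let P : Sylow 3 C := Sylow.ofCard (zpowers ⟨y, hyC⟩) (by rw [Nat.card_zpowers, hyo, hf, pow_one])
  have hP : (P : Subgroup C) = zpowers ⟨y, hyC⟩ := rfl
  have hNC : normalizer ((P : Subgroup C) : Set C) ≤ centralizer ((P : Subgroup C) : Set C) := by
    intro g _
    rw [hP, Three.centralizer_zpowers, mem_centralizer_singleton_iff]
    exact hcentral g
  have hcomp := MonoidHom.ker_transferSylow_isComplement' P hNC
  have hdiv := MonoidHom.not_dvd_card_ker_transferSylow P hNC
  have hker : (MonoidHom.transferSylow P hNC).ker = ⊥ := by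
    rw [eq_bot_iff, ← core_sub hO hCn]
    exact le_pPrimeCore (MonoidHom.normal_ker _) ((Nat.Prime.coprime_iff_not_dvd Nat.prime_three).2 hdiv).symm
  have hC3 : Nat.card C = 3 := by
    have h1 := hcomp.card_mul_card
    rw [hker, card_bot, one_mul, hP, Nat.card_zpowers, hyo] at h1
    exact h1.symm
  have hconj : ∀ g : H, g * y * g⁻¹ = y ∨ g * y * g⁻¹ = y⁻¹ := by
    intro g
    apply eq_or_inv hy
    rw [← hLz]
    exact hLn.conj_mem _ hyL g
  have hmem : ∀ g : H, g ∈ C ↔ g * y * g⁻¹ = y := by
    intro g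
    rw [hC, mem_centralizer_singleton_iff, mul_inv_eq_iff_eq_mul]
  by_cases htop : C = ⊤
  · left
    rw [← card_top (G := H), ← htop, hC3]
  · right
    obtain ⟨g, hg⟩ : ∃ g, g ∉ C := by
      by_contra hcon
      push Not at hcon
      exact htop (eq_top_iff.2 fun g _ => hcon g)
    have hinv : ∀ h : H, h ∉ C → h * y * h⁻¹ = y⁻¹ := fun h hh =>
      (hconj h).resolve_left (fun h1 => hh ((hmem h).2 h1))
    have hidx : C.index = 2 := by
      rw [index_eq_two_iff]
      refine ⟨g, fun b => ?_⟩
      by_cases hb : b ∈ C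
      · refine Or.inr ⟨hb, fun hbg => hg ?_⟩
        have := C.mul_mem (C.inv_mem hb) hbg
        rwa [inv_mul_cancel_left] at this
      · refine Or.inl ⟨?_, hb⟩
        rw [hmem]
        have h1 := hinv g hg
        have h2 := hinv b hb
        calc b * g * y * (b * g)⁻¹ = b * (g * y * g⁻¹) * b⁻¹ := by group
          _ = b * y⁻¹ * b⁻¹ := by rw [h1]
          _ = (b * y * b⁻¹)⁻¹ := by group
          _ = y := by rw [h2, inv_inv]
    have hH6 : Nat.card H = 2 * 3 := by rw [← card_mul_index C, hC3, hidx]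
    obtain ⟨t, ht⟩ := exists_prime_orderOf_dvd_card' (G := H) 2 (by rw [hH6]; exact Dvd.intro _ rfl)
    have htC : t ∉ C := by
      intro htC
      have h1 : orderOf t ∣ Nat.card C := by
        have := orderOf_dvd_natCard (⟨t, htC⟩ : C)
        rwa [← Subgroup.orderOf_coe] at this
      rw [ht, hC3] at h1
      norm_num at h1
    have htt : t * t = 1 := by rw [← pow_two, ← ht]; exact pow_orderOf_eq_one t
    refine Lib.DihedralRecog.dihedral_of_generators (by norm_num) y t hy htt (hinv t htC) ?_ hH6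
    intro h
    apply htC
    have : zpowers y ≤ C := by rw [zpowers_le]; exact hyC
    exact this h

/-- the normal closure of `y` has trivial centralizer if it is not commutative -/
theorem centralizer_eq_bot (h9 : ¬ 9 ∣ Nat.card H) (hO : pPrimeCore 3 H = ⊥) {y : H} (hy : orderOf y = 3)
    (hnc : ¬ IsMulCommutative ↥(normalClosure ({y} : Set H))) :
    centralizer ((normalClosure ({y} : Set H) : Subgroup H) : Set H) = ⊥ := by
  set L := normalClosure ({y} : Set H) with hL
  have hLn : L.Normal := normalClosure_normal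
  have hCn : (centralizer (L : Set H)).Normal := inferInstance
  by_cases h3 : 3 ∣ Nat.card (centralizer (L : Set H))
  · exfalso
    have h1 : y ∈ centralizer (L : Set H) := mem_of_normal h9 hCn h3 hy
    have h2 : L ≤ centralizer (L : Set H) := by
      rw [hL]
      exact normalClosure_le_normal (Set.singleton_subset_iff.2 h1)
    apply hnc
    refine ⟨⟨fun a b => Subtype.ext ?_⟩⟩
    exact (mem_centralizer_iff.1 (h2 b.2) a a.2)
  · rw [eq_bot_iff, ← hO]
    exact le_pPrimeCore hCn ((Nat.Prime.coprime_iff_not_dvd Nat.prime_three).2 h3).symm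

/-- Frattini: `H = L C_H(y)` -/
theorem sup_centralizer (h9 : ¬ 9 ∣ Nat.card H) (hO : pPrimeCore 3 H = ⊥) {y : H} (hy : orderOf y = 3)
    (hnc : ¬ IsMulCommutative ↥(normalClosure ({y} : Set H))) :
    normalClosure ({y} : Set H) ⊔ centralizer ({y} : Set H) = ⊤ := by
  have hs := simple h9 hO hy
  set L := normalClosure ({y} : Set H) with hL
  have hLn : L.Normal := normalClosure_normal
  have hyL : y ∈ L := subset_normalClosure rfl
  have hyo : orderOf (⟨y, hyL⟩ : L) = 3 := by rw [← Subgroup.orderOf_coe]; exact hy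
  obtain ⟨j, hj⟩ := exists_invert hnc (nine_sub h9 L) hyo
  have hj' : (j : H) * y * (j : H)⁻¹ = y⁻¹ := congrArg Subtype.val hj
  rw [eq_top_iff]
  intro h _
  have hhL : h * y * h⁻¹ ∈ L := hLn.conj_mem _ hyL h
  have hho : orderOf (⟨h * y * h⁻¹, hhL⟩ : L) = 3 := by
    rw [← Subgroup.orderOf_coe]
    change orderOf (MulAut.conj h y) = 3
    rw [MulEquiv.orderOf_eq, hy]
  obtain ⟨l, hl⟩ := Three.exists_conj (nine_sub h9 L) hho hyo
  have h1 : ((l : H) * h) * y * ((l : H) * h)⁻¹ ∈ zpowers y := by
    have h2 : l * ⟨h * y * h⁻¹, hhL⟩ * l⁻¹ ∈ zpowers (⟨y, hyL⟩ : L) := by rw [← hl]; exact mem_zpowers _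
    obtain ⟨k, hk⟩ := mem_zpowers_iff.1 h2
    refine mem_zpowers_iff.2 ⟨k, ?_⟩
    have h3 : y ^ k = (l : H) * (h * y * h⁻¹) * (l : H)⁻¹ := congrArg Subtype.val hk
    rw [h3]
    group
  have key : ∀ m : L, ((m : H) * h) * y * ((m : H) * h)⁻¹ = y → h ∈ L ⊔ centralizer ({y} : Set H) := by
    intro m hm
    have h2 : (m : H) * h ∈ centralizer ({y} : Set H) := by
      rw [mem_centralizer_singleton_iff]
      exact mul_inv_eq_iff_eq_mul.1 hm
    have h3 : h = (m : H)⁻¹ * ((m : H) * h) := by group
    rw [h3]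
    exact mul_mem (mem_sup_left (L.inv_mem m.2)) (mem_sup_right h2)
  rcases eq_or_inv hy h1 with h2 | h2
  · exact key l h2
  · apply key (j * l)
    calc ((j * l : L) : H) * h * y * (((j * l : L) : H) * h)⁻¹ =
        (j : H) * (((l : H) * h) * y * ((l : H) * h)⁻¹) * (j : H)⁻¹ := by
          rw [Subgroup.coe_mul]; group
      _ = ((j : H) * y * (j : H)⁻¹)⁻¹ := by rw [h2]; group
      _ = y := by rw [hj', inv_inv]

end Cfsg.Agent.H435.Quot
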