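import Cfsg.Agent.H435.Three
import Cfsg.Agent.H435.Ord
import Cfsg.Agent.H435.Elts
import Cfsg.Agent.ClassicalGeometry.PSLTorus

/-!
# Simple groups with a small centralizer of an element of order 3, without 5 and 9 (helper435)
-/

set_option autoImplicit false

namespace Cfsg.Agent.H435.Six

open Cfsg Cfsg.Agent.H435 Cfsg.Agent.H435.Cases Cfsg.Agent.H435.Ord Cfsg.Agent.H435.Elts Subgroup Matrix

/-- the diagonal torus of `SL₂` -/
def tor (F : Type*) [Field F] : Fˣ →* Matrix.SpecialLinearGroup (Fin 2) F where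
  toFun a := ⟨diagonal ![(a : F), ((a⁻¹ : Fˣ) : F)], by rw [det_diagonal, Fin.prod_univ_two]; simp⟩
  map_one' := by
    apply Subtype.ext
    change diagonal _ = (1 : Matrix (Fin 2) (Fin 2) F)
    rw [← diagonal_one]
    congr 1
    funext i
    fin_cases i <;> simp
  map_mul' a b := by
    apply Subtype.ext
    change diagonal _ = diagonal _ * diagonal _
    rw [diagonal_mul_diagonal]
    congr 1
    funext i
    fin_cases i
    · simp
    · simp [mul_comm]

theorem exists_split (F : Type*) [Field F] [Finite F] :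
    ∃ C : Subgroup (Matrix.ProjectiveSpecialLinearGroup (Fin 2) F), IsCyclic C ∧ Nat.card Fˣ ∣ 2 * Nat.card C := by
  let f : Fˣ →* Matrix.ProjectiveSpecialLinearGroup (Fin 2) F := (QuotientGroup.mk' _).comp (tor F)
  refine ⟨f.range, isCyclic_of_surjective f.rangeRestrict f.rangeRestrict_surjective, ?_⟩
  have h1 : Nat.card Fˣ = Nat.card f.ker * Nat.card f.range := by
    rw [← Subgroup.index_ker, Subgroup.card_mul_index]
  rw [h1]
  apply mul_dvd_mul_right
  have h2 : ∀ a ∈ f.ker, a ^ 2 = 1 := by
    intro a ha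
    have h3 : tor F a ∈ Subgroup.center (Matrix.SpecialLinearGroup (Fin 2) F) := (QuotientGroup.eq_one_iff _).1 ha
    obtain ⟨r, -, hr⟩ := Matrix.SpecialLinearGroup.mem_center_iff.mp h3
    have h4 : r = (a : F) := by
      have h : Matrix.scalar (Fin 2) r 0 0 = (diagonal ![(a : F), ((a⁻¹ : Fˣ) : F)] : Matrix (Fin 2) (Fin 2) F) 0 0 :=
        congrFun (congrFun hr 0) 0
      simpa [Matrix.scalar_apply] using h
    have h5 : r = ((a⁻¹ : Fˣ) : F) := by
      have h : Matrix.scalar (Fin 2) r 1 1 = (diagonal ![(a : F), ((a⁻¹ : Fˣ) : F)] : Matrix (Fin 2) (Fin 2) F) 1 1 :=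
        congrFun (congrFun hr 1) 1
      simpa [Matrix.scalar_apply] using h
    have h6 : a = a⁻¹ := Units.ext (h4.symm.trans h5)
    rw [pow_two]
    nth_rw 2 [h6]
    rw [mul_inv_cancel]
  obtain ⟨g, hg⟩ := IsCyclic.exists_ofOrder_eq_natCard (α := f.ker)
  rw [← hg]
  apply orderOf_dvd_of_pow_eq_one
  exact Subtype.ext (h2 g g.2)

theorem lemmaA {G : Type*} [Group G] [Finite G] [IsSimpleGroup G] (hna : ¬ IsMulCommutative G)
    (h5 : ¬ 5 ∣ Nat.card G) (h9 : ¬ 9 ∣ Nat.card G) {x : G} (hx : orderOf x = 3)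
    (hC : Nat.card (centralizer ({x} : Set G)) ∣ 12) (hexp : ∀ a ∈ centralizer ({x} : Set G), a ^ 6 = 1) :
    Nat.card G = 168 ∨ Nat.card G = 1092 := by
  have h3 : 3 ∣ Nat.card G := by rw [← hx]; exact orderOf_dvd_natCard x
  -- cyclic subgroups
  have hcyc : ∀ C : Subgroup G, IsCyclic C → 3 ∣ Nat.card C → Nat.card C ∣ 6 := by
    intro C hCy h3C
    obtain ⟨y, hy⟩ := exists_prime_orderOf_dvd_card' (G := C) 3 h3C
    obtain ⟨g, hg⟩ := IsCyclic.exists_ofOrder_eq_natCard (α := C)
    rw [← hg]
    apply orderOf_dvd_of_pow_eq_one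
    apply Subtype.ext
    have hy' : orderOf (y : G) = 3 := by rw [Subgroup.orderOf_coe, hy]
    refine Three.pow_centralizer h9 hx hy' hexp ?_
    rw [mem_centralizer_singleton_iff]
    exact congrArg Subtype.val (IsMulCommutative.is_comm.comm g y)
  have hbig : ∀ k, BigCent G k → k ∣ 12 := by
    rintro k ⟨y, V, hy, hV, rfl⟩
    refine Dvd.dvd.trans ?_ hC
    rw [← Three.card_centralizer h9 hx hy]
    apply card_dvd_of_le
    intro z hz
    rw [mem_centralizer_singleton_iff]
    exact hV z hz
  rcases not45 hna h5 h9 h3 with ⟨F, _, _, hq4, ⟨e⟩⟩ | ⟨F, _, _, hq, ⟨e⟩⟩ | ⟨F, _, _, q, hF, hq, ⟨e⟩⟩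
  · have hc := psl2_card (F := F)
    rw [← Nat.card_congr e.toEquiv] at hc
    have hcyc' : ∀ C : Subgroup (Matrix.ProjectiveSpecialLinearGroup (Fin 2) F), IsCyclic C → 3 ∣ Nat.card C →
        Nat.card C ∣ 6 := by
      intro C hC1 hC2
      have e2 : ↥C ≃* ↥(C.map e.symm.toMonoidHom) := C.equivMapOfInjective _ e.symm.injective
      rw [Nat.card_congr e2.toEquiv] at hC2 ⊢
      exact hcyc _ (isCyclic_of_surjective e2 e2.surjective) hC2
    by_cases h3q : 3 ∣ Fintype.card F
    · exfalso
      obtain ⟨p, hcp⟩ := CharP.exists F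
      obtain ⟨n, hp, hpn⟩ := FiniteField.card F p
      have hp3 : p = 3 := by
        have : 3 ∣ p ^ (n : ℕ) := by rw [← hpn]; exact h3q
        exact ((Nat.prime_dvd_prime_iff_eq Nat.prime_three hp).1 (Nat.prime_three.dvd_of_dvd_pow this)).symm
      subst hp3
      have hn : 2 ≤ (n : ℕ) := by
        by_contra hlt
        have : (n : ℕ) = 1 := by have := n.pos; omega
        rw [hpn, this] at hq4
        omega
      have h9' : 9 ∣ Fintype.card F := by
        rw [hpn]
        exact pow_dvd_pow 3 hn
      apply h9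
      have h1 : 9 ∣ Nat.gcd 2 (Fintype.card F - 1) * Nat.card G := by
        rw [hc]
        exact h9'.mul_right _
      have h2 : Nat.Coprime 9 (Nat.gcd 2 (Fintype.card F - 1)) :=
        Nat.Coprime.coprime_dvd_right (Nat.gcd_dvd_left _ _) (by norm_num)
      exact h2.dvd_of_dvd_mul_left h1
    · obtain ⟨C, hCc, hCd⟩ := exists_split F
      rw [card_units_eq] at hCd
      obtain ⟨D, -, -, -, hDc, hD, -⟩ := ClassicalGeometry.PSLTorus.exists_psl_torus F
      generalize Fintype.card F = q at *
      have hg : Nat.gcd 2 (q - 1) = 1 ∨ Nat.gcd 2 (q - 1) = 2 := (Nat.dvd_prime Nat.prime_two).1 (Nat.gcd_dvd_left _ _)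
      have h12 : q % 3 = 1 ∨ q % 3 = 2 := by omega
      rcases h12 with h1 | h2
      · have h3C : 3 ∣ Nat.card C := by
          have : 3 ∣ 2 * Nat.card C := Dvd.dvd.trans (by omega) hCd
          omega
        have h6 := hcyc' C hCc h3C
        have h12 : q - 1 ∣ 12 := hCd.trans (Nat.mul_dvd_mul_left 2 h6)
        have hle := Nat.le_of_dvd (by norm_num) h12
        have : q = 4 ∨ q = 7 ∨ q = 13 := by
          have : q ≤ 13 := by omega
          interval_cases q <;> omega
        rcases this with rfl | rfl | rfl <;> norm_num at hc <;> omega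
      · exfalso
        have h3D : 3 ∣ Nat.card D := by
          rw [hD]
          rcases hg with hg | hg <;> rw [hg]
          · omega
          · have h := Nat.gcd_dvd_right 2 (q - 1)
            rw [hg] at h
            omega
        have h6 := hcyc' D hDc h3D
        rw [hD] at h6
        have hle := Nat.le_of_dvd (by norm_num) h6
        have hq12 : q ≤ 12 := by
          rcases hg with hg | hg <;> rw [hg] at hle <;> omega
        interval_cases q <;> norm_num at * <;> omega
  · have h1 := hbig _ ((Elts.psl3_two (F := F) (by omega)).congr e.symm)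
    have hle := Nat.le_of_dvd (by norm_num) h1
    have hc := psl3_card (F := F)
    rw [← Nat.card_congr e.toEquiv] at hc
    have hcase : Fintype.card F = 2 ∨ Fintype.card F = 5 := by
      generalize Fintype.card F = q at *
      have : q ≤ 13 := by omega
      interval_cases q <;> omega
    rcases hcase with h2 | h2 <;> rw [h2] at hc <;> norm_num at hc <;> omega
  · exfalso
    have hq1 : 1 < q := by
      have : 1 < Fintype.card F := Fintype.one_lt_card
      rw [hF] at this
      by_contra hlt
      have : q ≤ 1 := by omega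
      nlinarith
    have h3F : (3 : F) ≠ 0 := by
      intro h3F
      obtain ⟨p, hp⟩ := CharP.exists F
      have hpp : p.Prime := (CharP.char_is_prime_or_zero F p).resolve_right (CharP.char_ne_zero_of_finite F p)
      have h1 : p ∣ 3 := (CharP.cast_eq_zero_iff F p 3).1 (by exact_mod_cast h3F)
      have h2 := (Nat.prime_dvd_prime_iff_eq hpp Nat.prime_three).1 h1
      subst h2
      obtain ⟨n, -, hn⟩ := FiniteField.card F 3
      have h3q : 3 ∣ q ^ 2 := by
        rw [← hF, hn]
        exact dvd_pow_self _ n.pos.ne'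
      have := Nat.prime_three.dvd_of_dvd_pow h3q
      omega
    have h1 := hbig _ ((Elts.psu3_one hF (by omega) h3F).congr e.symm)
    have hle := Nat.le_of_dvd (by norm_num) h1
    have : q ≤ 11 := by omega
    interval_cases q <;> omega

end Cfsg.Agent.H435.Six
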