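import Cfsg.Agent.ThreePrime.Main
import Cfsg.Agent.H435.Cases

/-!
# Groups of order prime to 15 are solvable (helper435)
-/

set_option autoImplicit false

namespace Cfsg.Agent.H435.Sol

open Subgroup

universe u

theorem isSolvable_aux (n : ℕ) : ∀ (G : Type u) [Group G] [Finite G], Nat.card G = n → ¬ 3 ∣ n → ¬ 5 ∣ n →
    Group.IsSolvable G := by
  induction n using Nat.strong_induction_on with
  | _ n ih =>
    intro G _ _ hn h3 h5
    by_cases hex : ∃ N : Subgroup G, N.Normal ∧ N ≠ ⊥ ∧ N ≠ ⊤
    · obtain ⟨N, hN, hNb, hNt⟩ := hex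
      rw [Group.isSolvable_iff_subgroup_quotient N]
      have h1 : Nat.card N ∣ Nat.card G := card_subgroup_dvd_card N
      have h2 : Nat.card (G ⧸ N) ∣ Nat.card G := card_quotient_dvd_card N
      have h6 : Nat.card G = Nat.card (G ⧸ N) * Nat.card N := card_eq_card_quotient_mul_card_subgroup N
      have hpos : 0 < Nat.card G := Nat.card_pos
      have hN1 : Nat.card N ≠ 1 := by rw [Ne, card_eq_one]; exact hNb
      have hN2 : Nat.card N ≠ Nat.card G := fun h => hNt ((card_eq_iff_eq_top N).1 h)
      have hlt1 : Nat.card N < n := by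
        rw [← hn]
        exact lt_of_le_of_ne (Nat.le_of_dvd hpos h1) hN2
      have hlt2 : Nat.card (G ⧸ N) < n := by
        rw [← hn]
        refine lt_of_le_of_ne (Nat.le_of_dvd hpos h2) ?_
        intro h
        rw [h] at h6
        apply hN1
        exact Nat.eq_of_mul_eq_mul_left hpos (by rw [mul_one]; exact h6.symm)
      rw [hn] at h1 h2
      exact ⟨ih _ hlt1 N rfl (fun h => h3 (h.trans h1)) (fun h => h5 (h.trans h1)),
        ih _ hlt2 (G ⧸ N) rfl (fun h => h3 (h.trans h2)) (fun h => h5 (h.trans h2))⟩
    · by_cases htriv : Nontrivial G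
      · have hs : IsSimpleGroup G := ⟨fun N hN => by
          by_contra hcon
          push Not at hcon
          exact hex ⟨N, hN, hcon⟩⟩
        by_cases hc : IsMulCommutative G
        · exact Group.isSolvable_of_comm (fun a b => hc.is_comm.comm a b)
        · exfalso
          have h := ThreePrime.Main.isoSuzuki' (G := G) hc (by rw [hn]; exact h3)
          have h7 := (Cases.suz h).2
          rw [hn] at h7
          exact h5 h7
      · have : Subsingleton G := not_nontrivial_iff_subsingleton.1 htriv
        infer_instance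

/-- a finite group of order prime to 15 is solvable -/
theorem isSolvable {G : Type u} [Group G] [Finite G] (h3 : ¬ 3 ∣ Nat.card G) (h5 : ¬ 5 ∣ Nat.card G) :
    Group.IsSolvable G := isSolvable_aux _ G rfl h3 h5

end Cfsg.Agent.H435.Sol
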