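import Cfsg.Agent.H609.TH.Frat
import Cfsg.Agent.OrdDiv.Table
import Cfsg.Agent.H385.SpCoTwo
import Cfsg.Agent.H149.Sp.CopCoMain
import Cfsg.Agent.H604.Cop.Conway
import Cfsg.Agent.H123.SporSimple

/-!
# S3938, row `Co2` (helper435, task 5123)

`r = 23`, `s` of order `23`, `B_s = N(⟨s⟩) = 23 : 11`, `y ∈ B_s` of order `11`, `B_y = N(⟨y⟩) = 11 : 10`.

The simple groups at the top are `L2(23)`, `M23`, `M24`. Each of them contains `B_s` and is generated by `B_s` and its
intersection with `B_y` (of order `22`, `55`, `110`); so there is at most one of each type. With `H = ⟨B_s, B_y⟩`: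
if `H ≠ ⊤` then `H` is the unique maximal overgroup of `s`, otherwise there is no `M24`, and there are at most two maximal
overgroups.
-/

set_option autoImplicit false

namespace Cfsg.Agent.H435.SprCo2

open Subgroup Cfsg Cfsg.Agent.OrdDiv Cfsg.Agent.H257.El Cfsg.Agent.H609.TH Cfsg.Agent.H424.Spr
open Cfsg.Agent.H537.Cop (SC CB)

/-- the factorization -/
def lC : List (ℕ × ℕ) := [(2, 18), (3, 6), (5, 3), (7, 1), (11, 1), (23, 1)]

theorem surv_eq : surv 42305421312000 lC 23 [] = [Grp.psl 2 23, Grp.m23, Grp.m24] := by decide +kernel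

theorem chk : chkN 42305421312000 lC 23 = true := by decide +kernel

/-! ### General lemmas -/

section

variable {T : Type*} [Group T] [Finite T]

/-- a `q`-group normalised by a self-centralising element of order `r` -/
theorem mod_of_norm {r q : ℕ} (hr : r.Prime) (hq : q.Prime) (hqr : r ≠ q) (hsc : SC r T) {y : T} (hy : orderOf y = r)
    {R : Subgroup T} (hR : IsPGroup q R) (hyR : y ∈ normalizer (R : Set T)) : Nat.card R % r = 1 := by
  by_contra hm
  obtain ⟨w, hwR, hw, hyw⟩ := exists_comm_of_normalizer hr hq hy hR hyR hm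
  exact noOrd_of_cent hr hsc hq hqr _ (orderOf_mul_of_comm hr hq hqr hy hw hyw)

omit [Finite T] in
/-- commutators of the normaliser of `⟨y⟩` -/
theorem comm_mem {y : T} (hC : ∀ x : T, x * y = y * x → x ∈ zpowers y) {a b : T}
    (ha : a ∈ normalizer ((zpowers y : Subgroup T) : Set T)) (hb : b ∈ normalizer ((zpowers y : Subgroup T) : Set T)) :
    a * b * a⁻¹ * b⁻¹ ∈ zpowers y := by
  -- it commutes with `y`
  apply hC
  obtain ⟨i, hi⟩ := mem_zpowers_iff.1 ((mem_normalizer_iff.1 (inv_mem ha) y).1 (mem_zpowers y))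
  obtain ⟨j, hj⟩ := mem_zpowers_iff.1 ((mem_normalizer_iff.1 (inv_mem hb) y).1 (mem_zpowers y))
  rw [inv_inv] at hi hj
  -- `a⁻¹ y a = y ^ i`, `b⁻¹ y b = y ^ j`
  have h1 : a⁻¹ * (b⁻¹ * y * b) * a = b⁻¹ * (a⁻¹ * y * a) * b := by
    rw [← hi, ← hj]
    have e1 : ∀ (c : T) (k : ℤ), c⁻¹ * y ^ k * c = (c⁻¹ * y * c) ^ k := by
      intro c k
      have := conj_zpow (a := c⁻¹) (b := y) (i := k)
      rw [inv_inv] at this
      exact this.symm
    rw [e1, e1, ← hi, ← hj, ← zpow_mul, ← zpow_mul, mul_comm]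
  -- `y (a b) (b a)⁻¹ = (a b) (b a)⁻¹ y`
  have h2 : y * (b * a) = (b * a) * (a⁻¹ * (b⁻¹ * y * b) * a) := by group
  have h3 : y * (a * b) = (a * b) * (b⁻¹ * (a⁻¹ * y * a) * b) := by group
  rw [← h1] at h3
  have h4 : (a * b * a⁻¹ * b⁻¹) * y = y * (a * b * a⁻¹ * b⁻¹) := by
    have h5 : a⁻¹ * (b⁻¹ * y * b) * a = (b * a)⁻¹ * y * (b * a) := by group
    rw [h5] at h3
    have h6 : y * (a * b * a⁻¹ * b⁻¹) = (y * (a * b)) * (b * a)⁻¹ := by group
    rw [h6, h3]
    group
  exact h4

/-- subgroups of `N(⟨y⟩)` containing `y` -/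
theorem le_of_orders {p m : ℕ} (hp : p.Prime) {y : T} (hy : orderOf y = p)
    (hC : ∀ x : T, x * y = y * x → x ∈ zpowers y)
    (hB : Nat.card (normalizer ((zpowers y : Subgroup T) : Set T)) = p * m) {A A' : Subgroup T}
    (hA : A ≤ normalizer ((zpowers y : Subgroup T) : Set T)) (hA' : A' ≤ normalizer ((zpowers y : Subgroup T) : Set T))
    (hyA : y ∈ A) (hyA' : y ∈ A') {e f : ℕ} (hAc : Nat.card A = p * e) {e' : ℕ} (hAc' : Nat.card A' = p * e')
    (hm : e' * f = m) (hcop : e.Coprime f) : A ≤ A' := by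
  intro x hx
  set B := normalizer ((zpowers y : Subgroup T) : Set T) with hBd
  have hzB : zpowers y ≤ B := le_normalizer
  -- normality
  have hn : ∀ E : Subgroup T, E ≤ B → y ∈ E → ∀ g ∈ B, ∀ z ∈ E, g * z * g⁻¹ ∈ E := by
    intro E hE hyE g hg z hz
    have h1 := comm_mem hC hg (hE hz)
    have h2 : zpowers y ≤ E := by rwa [zpowers_le]
    have h3 : g * z * g⁻¹ = (g * z * g⁻¹ * z⁻¹) * z := by group
    rw [h3]
    exact mul_mem (h2 h1) hz
  have hnA' : (A'.subgroupOf B).Normal := ⟨fun z hz g => by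
    rw [mem_subgroupOf] at hz ⊢
    exact hn A' hA' hyA' g g.2 z hz⟩
  have hnz : ((zpowers y).subgroupOf A).Normal := ⟨fun z hz g => by
    rw [mem_subgroupOf] at hz ⊢
    exact (mem_normalizer_iff.1 (hA g.2) _).1 hz⟩
  -- the indices
  have hi1 : (A'.subgroupOf B).index = f := by
    have h1 := Subgroup.card_mul_index (A'.subgroupOf B)
    rw [Nat.card_congr (subgroupOfEquivOfLe hA').toEquiv, hAc', hB, ← hm, ← mul_assoc] at h1
    refine Nat.eq_of_mul_eq_mul_left ?_ h1
    rw [← hAc']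
    exact Nat.card_pos
  have hzA : zpowers y ≤ A := by rwa [zpowers_le]
  have hi2 : ((zpowers y).subgroupOf A).index = e := by
    have h1 := Subgroup.card_mul_index ((zpowers y).subgroupOf A)
    rw [Nat.card_congr (subgroupOfEquivOfLe hzA).toEquiv, Nat.card_zpowers, hy, hAc] at h1
    exact Nat.eq_of_mul_eq_mul_left hp.pos h1
  have h1 : x ^ f ∈ A' := by
    have := (A'.subgroupOf B).pow_index_mem ⟨x, hA hx⟩
    rw [hi1, mem_subgroupOf] at this
    exact this
  have h2 : x ^ e ∈ A' := by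
    have := ((zpowers y).subgroupOf A).pow_index_mem ⟨x, hx⟩
    rw [hi2, mem_subgroupOf] at this
    have h3 : zpowers y ≤ A' := by rwa [zpowers_le]
    exact h3 this
  -- coprime exponents
  have h3 : x ^ ((e.gcd f : ℕ) : ℤ) ∈ A' := by
    rw [Nat.gcd_eq_gcd_ab, zpow_add, zpow_mul, zpow_mul, zpow_natCast, zpow_natCast]
    exact mul_mem (zpow_mem h2 _) (zpow_mem h1 _)
  rw [hcop] at h3
  simpa using h3

end

/-! ### Facts on `Co2` -/

section

variable {T : Type} [Group T] [Finite T]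

omit [Finite T] in
theorem sc23 (h : Spor.IsoCo2 T) : SC 23 T := by
  obtain ⟨e⟩ := h
  exact SC.congr e Cfsg.Agent.H604.Cop.Conway.self_co2

theorem sc11 (h : Spor.IsoCo2 T) : SC 11 T := by
  have hcard : Nat.card T = 42305421312000 := Cfsg.Agent.NotCT.Orders.co2 h
  have h22 := Cfsg.Agent.H385.Sp.co2_22 h
  have hcb : ∀ q : ℕ, CB 11 q 0 Spor.Co2 → CB 11 q 0 T := by
    intro q hq
    obtain ⟨e⟩ := h
    exact CB.congr e hq
  have h3 := hcb 3 Cfsg.Agent.H149.Sp.CopCo.co2_11_3
  have h5 := hcb 5 (Cfsg.Agent.H149.Sp.CopCo.co2_p5 Cfsg.Agent.H149.Sp.p11 Cfsg.Agent.H149.Sp.p5 (by norm_num))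
  have h7 := hcb 7 (Cfsg.Agent.H149.Sp.CopCo.co2_p5 Cfsg.Agent.H149.Sp.p11 Cfsg.Agent.H149.Sp.p7 (by norm_num))
  have h23 := hcb 23 (Cfsg.Agent.H149.Sp.CopCo.co2_p5 Cfsg.Agent.H149.Sp.p11 Cfsg.Agent.H149.Sp.p23 (by norm_num))
  have h2 : CB 11 2 0 T := by
    refine CB.of_ne Nat.prime_two fun a b ha hb hab => h22 ⟨a * b, ?_⟩
    exact orderOf_mul_of_comm (by norm_num) (by norm_num) (by norm_num) ha hb hab
  intro x hx
  have hd : Nat.card (centralizer ({x} : Set T)) ∣ 42305421312000 := by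
    rw [← hcard]
    exact card_subgroup_dvd_card _
  have h11 : 11 ∣ Nat.card (centralizer ({x} : Set T)) := by
    have h4 := orderOf_dvd_natCard (⟨x, mem_centralizer_singleton_iff.2 rfl⟩ : centralizer ({x} : Set T))
    rwa [Subgroup.orderOf_mk, hx] at h4
  have a2 := h2 x hx
  have a3 := h3 x hx
  have a5 := h5 x hx
  have a7 := h7 x hx
  have a23 := h23 x hx
  rw [zero_add, pow_one] at a2 a3 a5 a7 a23
  generalize Nat.card (centralizer ({x} : Set T)) = c at *
  have c2 : c.Coprime (2 ^ 18) := ((Nat.Prime.coprime_iff_not_dvd (by norm_num)).2 a2).symm.pow_right 18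
  have c3 : c.Coprime (3 ^ 6) := ((Nat.Prime.coprime_iff_not_dvd (by norm_num)).2 a3).symm.pow_right 6
  have c5 : c.Coprime (5 ^ 3) := ((Nat.Prime.coprime_iff_not_dvd (by norm_num)).2 a5).symm.pow_right 3
  have c7 : c.Coprime 7 := ((Nat.Prime.coprime_iff_not_dvd (by norm_num)).2 a7).symm
  have c23 : c.Coprime 23 := ((Nat.Prime.coprime_iff_not_dvd (by norm_num)).2 a23).symm
  have e1 : 42305421312000 = 2 ^ 18 * (3 ^ 6 * (5 ^ 3 * (7 * (23 * 11)))) := by norm_num
  rw [e1] at hd
  have hd := c23.dvd_of_dvd_mul_left (c7.dvd_of_dvd_mul_left (c5.dvd_of_dvd_mul_left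
    (c3.dvd_of_dvd_mul_left (c2.dvd_of_dvd_mul_left hd))))
  exact Nat.dvd_antisymm hd h11

/-- **no `2`-group is normalised by an element of order `23`** -/
theorem free_two (h : Spor.IsoCo2 T) {y : T} (hy : orderOf y = 23) {R : Subgroup T} (hR : IsPGroup 2 R)
    (hyR : y ∈ normalizer (R : Set T)) : R = ⊥ := by
  have h2' : Fact (Nat.Prime 2) := ⟨Nat.prime_two⟩
  have h23' : Fact (Nat.Prime 23) := ⟨by norm_num⟩
  have hcard : Nat.card T = 42305421312000 := Cfsg.Agent.NotCT.Orders.co2 h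
  have hsc := sc23 h
  have hsc' := sc11 h
  -- the orders of the `2`-groups
  have key : ∀ (z : T) (Q : Subgroup T), orderOf z = 23 → IsPGroup 2 Q → z ∈ normalizer (Q : Set T) →
      Nat.card Q = 1 ∨ Nat.card Q = 2 ^ 11 := by
    intro z Q hz hQ hzQ
    have h1 := mod_of_norm (by norm_num) Nat.prime_two (by norm_num) hsc hz hQ hzQ
    obtain ⟨b, hb⟩ := IsPGroup.iff_card.1 hQ
    have hb18 : b ≤ 18 := by
      by_contra hlt
      have h3 : 2 ^ 19 ∣ Nat.card Q := by
        rw [hb]
        exact pow_dvd_pow 2 (by omega)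
      have h4 := h3.trans (card_subgroup_dvd_card Q)
      rw [hcard] at h4
      exact absurd h4 (by norm_num)
    rw [hb] at h1 ⊢
    interval_cases b <;> first | (left; rfl) | (right; rfl) | (exfalso; revert h1; norm_num)
  rcases key y R hy hR hyR with h1 | h1
  · exact card_eq_one.1 h1
  exfalso
  set M := normalizer (R : Set T) with hM
  have hM12 : 2 ^ 12 ∣ Nat.card M :=
    Sylow.prime_pow_dvd_card_normalizer (p := 2) (n := 11) (by rw [hcard]; norm_num) h1
  -- `11` does not divide the order of `M`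
  have hM11 : ¬ 11 ∣ Nat.card M := by
    intro h2
    have h11' : Fact (Nat.Prime 11) := ⟨by norm_num⟩
    obtain ⟨u, hu⟩ := exists_prime_orderOf_dvd_card' (G := M) 11 h2
    have h3 := mod_of_norm (by norm_num) Nat.prime_two (by norm_num) hsc' (y := (u : T))
      (by rw [Subgroup.orderOf_coe, hu]) hR u.2
    rw [h1] at h3
    norm_num at h3
  -- the normaliser of `⟨y⟩` in `M`
  have hT2 : ¬ 23 ^ 2 ∣ Nat.card T := by rw [hcard]; norm_num
  have hM2 : ¬ 23 ^ 2 ∣ Nat.card M := fun h2 => hT2 (h2.trans (card_subgroup_dvd_card M))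
  set y' : M := ⟨y, hyR⟩ with hy'
  have hyo : orderOf y' = 23 := by rw [hy', Subgroup.orderOf_mk, hy]
  have hscM : Nat.card (centralizer ({y'} : Set M)) = 23 := sc_sub (by norm_num) hsc M y' hyo
  have hMne : Nat.card M ≠ 23 := by
    intro h2
    rw [h2] at hM12
    exact absurd hM12 (by norm_num)
  obtain ⟨hN1, hN2⟩ := card_norm_mod (Q := M) (r := 23) (by norm_num) hM2 hMne hscM
  have he : (Nat.card M / 23) % 23 = 1 := by
    generalize (Nat.card M / 23) % 23 = e at hN1 hN2
    have h3 : 23 * e ∣ Nat.card M := by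
      rw [← hN1]
      exact card_subgroup_dvd_card _
    have h4 : ¬ 11 ∣ e := fun h5 => hM11 ((h5.mul_left 23).trans h3)
    have h5 : e ≤ 22 := Nat.le_of_dvd (by norm_num) hN2
    -- it divides `|N_T(⟨y⟩)|`
    have h6 : 23 * e ∣ 23 * 11 := by
      have h7 : 23 * e = Nat.card (normalizer ((zpowers y : Subgroup T) : Set T) ⊓ M : Subgroup T) := by
        rw [card_norm_inf (by norm_num) hT2 hsc hy hyR hMne, ← (card_norm_mod (Q := M) (r := 23) (by norm_num) hM2 hMne
          hscM).1, hN1]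
      have h8 : Nat.card (normalizer ((zpowers y : Subgroup T) : Set T)) = 23 * 11 := by
        rw [(card_norm_mod (by norm_num) hT2 (by rw [hcard]; norm_num) (hsc y hy)).1, hcard]
      rw [h7, ← h8]
      exact card_dvd_of_le inf_le_left
    have h7 : e ∣ 11 := Nat.dvd_of_mul_dvd_mul_left (by norm_num) h6
    rcases (Nat.dvd_prime (by norm_num)).1 h7 with h8 | h8
    · exact h8
    · exact absurd ⟨1, by rw [h8]⟩ h4
  rw [he, mul_one] at hN1
  -- the Sylow subgroup
  have hPc : Nat.card (zpowers y') = 23 := by rw [Nat.card_zpowers, hyo]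
  have hPp : IsPGroup 23 (zpowers y') := IsPGroup.of_card (n := 1) (by rw [hPc, pow_one])
  obtain ⟨P, hP⟩ := hPp.exists_le_sylow
  have hPc' : Nat.card P = 23 := by
    obtain ⟨b, hb⟩ := IsPGroup.iff_card.1 P.isPGroup'
    have h3 : Nat.card (zpowers y') ∣ Nat.card P := card_dvd_of_le hP
    rw [hPc] at h3
    have h4 : b < 2 := by
      by_contra hlt
      apply hM2
      refine dvd_trans ?_ (card_subgroup_dvd_card (P : Subgroup M))
      rw [hb]
      exact pow_dvd_pow 23 (by omega)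
    rw [hb]
    interval_cases b
    · rw [hb] at h3
      exact absurd h3 (by norm_num)
    · rfl
  have hPe : (P : Subgroup M) = zpowers y' := (eq_of_le_of_card_ge hP (by rw [hPc, hPc'])).symm
  have hnc : normalizer ((P : Subgroup M) : Set M) ≤ centralizer ((P : Subgroup M) : Set M) := by
    rw [hPe]
    have h3 : zpowers y' = normalizer ((zpowers y' : Subgroup M) : Set M) :=
      eq_of_le_of_card_ge le_normalizer (by rw [hN1, hPc])
    rw [← h3]
    exact le_centralizer _
  have hcomp := MonoidHom.ker_transferSylow_isComplement' P hnc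
  have hnd := MonoidHom.not_dvd_card_ker_transferSylow P hnc
  set H := (MonoidHom.transferSylow P hnc).ker with hH
  have hHc : Nat.card H * 23 = Nat.card M := by
    rw [← hPc']
    exact hcomp.card_mul_card
  have hH12 : 2 ^ 12 ∣ Nat.card H := by
    rw [← hHc] at hM12
    exact Nat.Coprime.dvd_of_dvd_mul_right (by norm_num) hM12
  -- a Sylow `2`-subgroup of `H`
  obtain ⟨S⟩ : Nonempty (Sylow 2 H) := inferInstance
  have hdM : 23 ∣ Nat.card M := by
    rw [← hHc]
    exact dvd_mul_left _ _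
  obtain ⟨z, hz, hzS⟩ := exists_normalizer hdM H hnd S
  set Q : Subgroup M := (S : Subgroup H).map H.subtype with hQ
  have hQp : IsPGroup 2 Q := S.isPGroup'.map _
  have hQc : Nat.card (Q.map M.subtype) = Nat.card S := by
    rw [card_map_of_injective M.subtype_injective, hQ, card_map_of_injective H.subtype_injective]
  have hS12 : 2 ^ 12 ∣ Nat.card S := by
    rw [S.card_eq_multiplicity]
    exact pow_dvd_pow 2 ((Nat.Prime.pow_dvd_iff_le_factorization Nat.prime_two Nat.card_pos.ne').1 hH12)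
  have hzN : (z : T) ∈ normalizer ((Q.map M.subtype : Subgroup T) : Set T) := by
    rw [mem_normalizer_iff]
    intro x
    constructor
    · rintro ⟨w, hw, rfl⟩
      exact ⟨z * w * z⁻¹, (mem_normalizer_iff.1 hzS w).1 hw, rfl⟩
    · rintro ⟨w, hw, hwz⟩
      have hzK : x ∈ M := by
        have h3 : x = (z : T)⁻¹ * (M.subtype w) * z := by rw [hwz]; group
        rw [h3]
        exact mul_mem (mul_mem (inv_mem z.2) w.2) z.2
      refine ⟨⟨x, hzK⟩, (mem_normalizer_iff.1 hzS _).2 ?_, rfl⟩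
      have h4 : z * ⟨x, hzK⟩ * z⁻¹ = w := Subtype.ext hwz.symm
      rw [h4]
      exact hw
  rcases key (z : T) (Q.map M.subtype) (by rw [Subgroup.orderOf_coe, hz]) (hQp.map _) hzN with h3 | h3
  · rw [hQc] at h3
    rw [h3] at hS12
    exact absurd hS12 (by norm_num)
  · rw [hQc] at h3
    rw [h3] at hS12
    exact absurd hS12 (by norm_num)

theorem free (h : Spor.IsoCo2 T) : Free 23 T := by
  have hcard : Nat.card T = 42305421312000 := Cfsg.Agent.NotCT.Orders.co2 h
  have hv := (of_chkN chk).1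
  intro y hy q hq hqr R hR hyR
  by_cases hqn : q ∣ 42305421312000
  · obtain ⟨k, hk, -⟩ := exists_pair hv hq le_rfl (by rwa [pow_one])
    simp only [lC, List.mem_cons, Prod.mk.injEq, List.not_mem_nil, or_false] at hk
    have key : okPow lC 23 q = true → R = ⊥ := fun hok =>
      bot_of_okPow hcard hv (by norm_num) (sc23 h) hy hq hqr hok hR hyR
    rcases hk with ⟨rfl, -⟩ | ⟨rfl, -⟩ | ⟨rfl, -⟩ | ⟨rfl, -⟩ | ⟨rfl, -⟩ | ⟨rfl, -⟩
    · exact free_two h hy hR hyR
    · exact key (by decide +kernel)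
    · exact key (by decide +kernel)
    · exact key (by decide +kernel)
    · exact key (by decide +kernel)
    · exact absurd rfl hqr
  · have hq' : Fact q.Prime := ⟨hq⟩
    obtain ⟨b, hb⟩ := IsPGroup.iff_card.1 hR
    rcases Nat.eq_zero_or_pos b with rfl | hb0
    · rw [pow_zero] at hb
      exact card_eq_one.1 hb
    · exfalso
      apply hqn
      rw [← hcard]
      refine dvd_trans ?_ (card_subgroup_dvd_card R)
      rw [hb]
      exact dvd_pow_self q hb0.ne'

omit [Finite T] in
/-- the simple groups at the top -/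
theorem top_card {s : T} {K N : Subgroup T} (hN : IsTop T 42305421312000 lC 23 s K N) :
    Nat.card N = 6072 ∨ Nat.card N = 10200960 ∨ Nat.card N = 244823040 := by
  obtain ⟨g, hg, -, hgc⟩ := hN.real
  rw [surv_eq] at hg
  simp only [List.mem_cons, List.not_mem_nil, or_false] at hg
  rcases hg with rfl | rfl | rfl
  · left
    rw [hgc]
    decide +kernel
  · right; left
    rw [hgc]
    rfl
  · right; right
    rw [hgc]
    rfl

/-- **The row `Co2`.** -/
theorem spr_co2 (known : Cfsg.Agent.H257.El.Known.{0}) {T : Type} [Group T] [Finite T] (h : Spor.IsoCo2 T) :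
    Cfsg.Agent.H424.Spr.Spr T := by
  have hcard : Nat.card T = 42305421312000 := Cfsg.Agent.NotCT.Orders.co2 h
  have hsim : IsSimpleGroup T := Cfsg.Agent.H123.SporSimple.spor_simple (by simp [IsSporadicGroup, h])
  have hna : ∃ x y : T, x * y ≠ y * x := exists_not_comm hcard (by norm_num)
  obtain ⟨hv, -, hrn, h2, hne⟩ := of_chkN chk
  have hr : Nat.Prime 23 := by norm_num
  have hr11 : Nat.Prime 11 := by norm_num
  have hsc := sc23 h
  have hsc' := sc11 h
  have hfree : Free 23 T := free h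
  have h2T : ¬ 23 ^ 2 ∣ Nat.card T := by rw [hcard]; exact h2
  have h11T : ¬ 11 ^ 2 ∣ Nat.card T := by rw [hcard]; norm_num
  have hneT : Nat.card T ≠ 23 := by rw [hcard]; exact hne
  have hneT' : Nat.card T ≠ 11 := by rw [hcard]; norm_num
  obtain ⟨s, hs⟩ := exists_of_order (T := T) hr (by rw [hcard]; exact hrn)
  set Bs := normalizer ((zpowers s : Subgroup T) : Set T) with hBs
  have hBsc : Nat.card Bs = 23 * 11 := by
    rw [hBs, (card_norm_mod hr h2T hneT (hsc s hs)).1, hcard]
  have hsBs : s ∈ Bs := le_normalizer (mem_zpowers s)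
  -- an element of order eleven
  have h11 : Fact (Nat.Prime 11) := ⟨hr11⟩
  obtain ⟨y', hy'⟩ := exists_prime_orderOf_dvd_card' (G := Bs) 11 (by rw [hBsc]; norm_num)
  obtain ⟨y, hyBs⟩ := y'
  rw [Subgroup.orderOf_mk] at hy'
  rename' hy' => hy
  set By := normalizer ((zpowers y : Subgroup T) : Set T) with hBy
  have hByc : Nat.card By = 11 * 10 := by
    rw [hBy, (card_norm_mod hr11 h11T hneT' (hsc' y hy)).1, hcard]
  have hC : ∀ x : T, x * y = y * x → x ∈ zpowers y := by
    intro x hx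
    have h3 : zpowers y = centralizer ({y} : Set T) := by
      refine eq_of_le_of_card_ge ?_ (by rw [hsc' y hy, Nat.card_zpowers, hy])
      rw [zpowers_le, mem_centralizer_singleton_iff]
    rw [h3, mem_centralizer_singleton_iff]
    exact hx
  have hyBy : y ∈ By := le_normalizer (mem_zpowers y)
  -- the tops contain `B_s`
  have hBN : ∀ {K N : Subgroup T}, IsTop T 42305421312000 lC 23 s K N → Bs ≤ N := by
    intro K N hN
    refine hN.norm_le hr h2T hneT hsc hs ?_
    rw [hcard]
    rcases top_card hN with h3 | h3 | h3 <;> rw [h3]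
  -- and are equal to the groups they are at the top of
  have hKN : ∀ {K N : Subgroup T}, IsTop T 42305421312000 lC 23 s K N → K ≤ N := by
    intro K N hN
    have h3 := (hN.index_mul_dvd hr h2T hneT hsc hs).2
    have h4 : (Nat.card N / 23) % 23 = 11 := by
      rcases top_card hN with h3 | h3 | h3 <;> rw [h3]
    have h5 : (Nat.card T / 23) % 23 = 11 := by rw [hcard]
    rw [h4, h5] at h3
    have h6 : N.relIndex K = 1 := by
      have h7 := Nat.dvd_of_mul_dvd_mul_right (k := 11) (m := N.relIndex K) (n := 1) (by norm_num) (by simpa using h3)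
      exact Nat.dvd_one.1 h7
    exact relIndex_eq_one.1 h6
  -- the intersection with `B_y`
  have hcap : ∀ {K N : Subgroup T}, IsTop T 42305421312000 lC 23 s K N →
      Nat.card (By ⊓ N : Subgroup T) = 11 * ((Nat.card N / 11) % 11) := by
    intro K N hN
    refine card_norm_inf hr11 h11T hsc' hy (hBN hN hyBs) ?_
    rcases top_card hN with h3 | h3 | h3 <;> rw [h3] <;> norm_num
  -- generation
  have hgen : ∀ {K N : Subgroup T}, K ≠ ⊤ → IsTop T 42305421312000 lC 23 s K N → Bs ⊔ (By ⊓ N) = N := by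
    intro K N hK hN
    have hle : Bs ⊔ (By ⊓ N) ≤ N := sup_le (hBN hN) inf_le_right
    have hNne := hN.ne_top hK
    have hWne : Bs ⊔ (By ⊓ N) ≠ ⊤ := fun h3 => hNne (top_le_iff.1 (by rw [← h3]; exact hle))
    rcases cases table known hcard hv hr h2 hfree hs hWne (mem_sup_left hsBs) with h3 | ⟨N'', hN''⟩
    · exfalso
      have h4 := card_dvd_of_le (le_sup_right.trans h3 : By ⊓ N ≤ Bs)
      rw [hcap hN, hBsc] at h4
      rcases top_card hN with h5 | h5 | h5 <;> rw [h5] at h4 <;> norm_num at h4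
    · have h4 : N'' = Bs ⊔ (By ⊓ N) := le_antisymm hN''.le (hKN hN'')
      have h5 : By ⊓ N'' = By ⊓ N := by
        refine le_antisymm (inf_le_inf_left _ (by rw [h4]; exact hle)) (le_inf inf_le_left ?_)
        rw [h4]
        exact le_sup_right
      have h6 := hcap hN''
      rw [h5, hcap hN] at h6
      rw [← h4]
      refine eq_of_le_of_card_ge (by rw [h4]; exact hle) ?_
      rcases top_card hN with h7 | h7 | h7 <;> rcases top_card hN'' with h8 | h8 | h8 <;> rw [h7, h8] at h6 ⊢ <;>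
        norm_num at h6
  -- at most one of each order
  have huni : ∀ {K N K' N' : Subgroup T}, K ≠ ⊤ → K' ≠ ⊤ → IsTop T 42305421312000 lC 23 s K N →
      IsTop T 42305421312000 lC 23 s K' N' → Nat.card N = Nat.card N' → N = N' := by
    intro K N K' N' hK hK' hN hN' hc
    have key : ∀ {K N K' N' : Subgroup T}, K ≠ ⊤ → K' ≠ ⊤ → IsTop T 42305421312000 lC 23 s K N →
        IsTop T 42305421312000 lC 23 s K' N' → Nat.card N = Nat.card N' → By ⊓ N ≤ By ⊓ N' := by
      intro K N K' N' hK hK' hN hN' hc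
      have c1 := hcap hN
      have c2 := hcap hN'
      rw [← hc] at c2
      rcases top_card hN with h3 | h3 | h3
      · rw [h3] at c1 c2
        exact le_of_orders (m := 10) hr11 hy hC hByc inf_le_left inf_le_left ⟨hyBy, hBN hN hyBs⟩
          ⟨hyBy, hBN hN' hyBs⟩ c1 c2 (f := 5) (by norm_num) (by norm_num)
      · rw [h3] at c1 c2
        exact le_of_orders (m := 10) hr11 hy hC hByc inf_le_left inf_le_left ⟨hyBy, hBN hN hyBs⟩
          ⟨hyBy, hBN hN' hyBs⟩ c1 c2 (f := 2) (by norm_num) (by norm_num)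
      · rw [h3] at c1 c2
        exact le_of_orders (m := 10) hr11 hy hC hByc inf_le_left inf_le_left ⟨hyBy, hBN hN hyBs⟩
          ⟨hyBy, hBN hN' hyBs⟩ c1 c2 (f := 1) (by norm_num) (by norm_num)
    rw [← hgen hK hN, ← hgen hK' hN', le_antisymm (key hK hK' hN hN' hc) (key hK' hK hN' hN hc.symm)]
  -- the two cases
  by_cases hH : Bs ⊔ By = ⊤
  · -- no `M24`
    have hno : ∀ {K N : Subgroup T}, K ≠ ⊤ → IsTop T 42305421312000 lC 23 s K N →
        Nat.card N = 6072 ∨ Nat.card N = 10200960 := by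
      intro K N hK hN
      rcases top_card hN with h3 | h3 | h3
      · exact Or.inl h3
      · exact Or.inr h3
      · exfalso
        have h4 := hcap hN
        rw [h3] at h4
        have h5 : By ⊓ N = By := eq_of_le_of_card_ge inf_le_left (by rw [h4, hByc])
        apply hN.ne_top hK
        rw [eq_top_iff, ← hH]
        refine sup_le (hBN hN) ?_
        rw [← h5]
        exact inf_le_right
    by_cases hex : ∃ K N : Subgroup T, K ≠ ⊤ ∧ IsTop T 42305421312000 lC 23 s K N
    · -- two tops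
      have hch : ∃ N₁ N₂ : Subgroup T, (∃ K : Subgroup T, K ≠ ⊤ ∧ IsTop T 42305421312000 lC 23 s K N₁) ∧
          (∃ K : Subgroup T, K ≠ ⊤ ∧ IsTop T 42305421312000 lC 23 s K N₂) ∧
          ∀ K N : Subgroup T, K ≠ ⊤ → IsTop T 42305421312000 lC 23 s K N → N = N₁ ∨ N = N₂ := by
        by_cases h1 : ∃ K N : Subgroup T, K ≠ ⊤ ∧ IsTop T 42305421312000 lC 23 s K N ∧ Nat.card N = 6072
        · obtain ⟨K₁, N₁, hK₁, hN₁, hc₁⟩ := h1
          by_cases h3 : ∃ K N : Subgroup T, K ≠ ⊤ ∧ IsTop T 42305421312000 lC 23 s K N ∧ Nat.card N = 10200960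
          · obtain ⟨K₂, N₂, hK₂, hN₂, hc₂⟩ := h3
            refine ⟨N₁, N₂, ⟨K₁, hK₁, hN₁⟩, ⟨K₂, hK₂, hN₂⟩, fun K N hK hN => ?_⟩
            rcases hno hK hN with h4 | h4
            · exact Or.inl (huni hK hK₁ hN hN₁ (by rw [h4, hc₁]))
            · exact Or.inr (huni hK hK₂ hN hN₂ (by rw [h4, hc₂]))
          · refine ⟨N₁, N₁, ⟨K₁, hK₁, hN₁⟩, ⟨K₁, hK₁, hN₁⟩, fun K N hK hN => Or.inl ?_⟩
            rcases hno hK hN with h4 | h4
            · exact huni hK hK₁ hN hN₁ (by rw [h4, hc₁])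
            · exact absurd ⟨K, N, hK, hN, h4⟩ h3
        · obtain ⟨K₂, N₂, hK₂, hN₂⟩ := hex
          have hc₂ : Nat.card N₂ = 10200960 := by
            rcases hno hK₂ hN₂ with h4 | h4
            · exact absurd ⟨K₂, N₂, hK₂, hN₂, h4⟩ h1
            · exact h4
          refine ⟨N₂, N₂, ⟨K₂, hK₂, hN₂⟩, ⟨K₂, hK₂, hN₂⟩, fun K N hK hN => Or.inl ?_⟩
          rcases hno hK hN with h4 | h4
          · exact absurd ⟨K, N, hK, hN, h4⟩ h1
          · exact huni hK hK₂ hN hN₂ (by rw [h4, hc₂])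
      obtain ⟨N₁, N₂, h3, h4, h5⟩ := hch
      refine spr_of_two_tops table known hna hcard hv hr h2 hfree hs h3 h4 h5 ?_
      obtain ⟨K₁, -, hN₁⟩ := h3
      exact (hBN hN₁).trans le_normalizer
    · exact spr_of_uniq hna (uniq_of_none table known hcard hv hr h2 hne hfree hs
        fun K N hK _ hN => hex ⟨K, N, hK, hN⟩)
  · -- `B_s ⊔ B_y` is the only maximal overgroup
    refine spr_of_one hna (s := s) (M := Bs ⊔ By) hH fun K hsK hK => ?_
    rcases cases table known hcard hv hr h2 hfree hs hK hsK with h3 | ⟨N, hN⟩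
    · exact h3.trans le_sup_left
    · refine (hKN hN).trans ?_
      rw [← hgen hK hN]
      exact sup_le le_sup_left (inf_le_left.trans le_sup_right)

end

end Cfsg.Agent.H435.SprCo2
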