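import Mathlib

/-!
# Elements of order 3 when 9 does not divide the order (helper435)
-/

set_option autoImplicit false

namespace Cfsg.Agent.H435.Three

open Subgroup

variable {G : Type*} [Group G] [Finite G]

theorem factorization (h9 : ¬ 9 ∣ Nat.card G) (h3 : 3 ∣ Nat.card G) : (Nat.card G).factorization 3 = 1 := by
  have h0 : Nat.card G ≠ 0 := Nat.card_pos.ne'
  have h1 : 1 ≤ (Nat.card G).factorization 3 := by
    rw [← Nat.Prime.pow_dvd_iff_le_factorization Nat.prime_three h0, pow_one]
    exact h3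
  have h2 : ¬ 2 ≤ (Nat.card G).factorization 3 := by
    rw [← Nat.Prime.pow_dvd_iff_le_factorization Nat.prime_three h0]
    exact h9
  omega

/-- subgroups generated by elements of order 3 are conjugate -/
theorem exists_conj (h9 : ¬ 9 ∣ Nat.card G) {x y : G} (hx : orderOf x = 3) (hy : orderOf y = 3) :
    ∃ g : G, zpowers (g * x * g⁻¹) = zpowers y := by
  have h3 : 3 ∣ Nat.card G := by rw [← hx]; exact orderOf_dvd_natCard x
  have hf := factorization h9 h3
  let P : Sylow 3 G := Sylow.ofCard (zpowers x) (by rw [Nat.card_zpowers, hx, hf, pow_one])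
  let Q : Sylow 3 G := Sylow.ofCard (zpowers y) (by rw [Nat.card_zpowers, hy, hf, pow_one])
  have hP : (P : Subgroup G) = zpowers x := rfl
  have hQ : (Q : Subgroup G) = zpowers y := rfl
  obtain ⟨g, hg⟩ := MulAction.exists_smul_eq G P Q
  refine ⟨g, ?_⟩
  have hmem : g * x * g⁻¹ ∈ zpowers y := by
    rw [← hQ, ← hg, Sylow.coe_subgroup_smul]
    exact Subgroup.smul_mem_pointwise_smul _ (MulAut.conj g) _ (by rw [hP]; exact mem_zpowers x)
  apply eq_of_le_of_card_ge
  · rw [zpowers_le]; exact hmem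
  · rw [Nat.card_zpowers, Nat.card_zpowers, hy, ← MulAut.conj_apply, MulEquiv.orderOf_eq, hx]

theorem centralizer_zpowers (x : G) : centralizer (zpowers x : Set G) = centralizer ({x} : Set G) := by
  rw [zpowers_eq_closure, centralizer_closure]

theorem centralizer_conj (x g : G) : centralizer ({g * x * g⁻¹} : Set G) =
    (centralizer ({x} : Set G)).map (MulAut.conj g).toMonoidHom := by
  ext y
  rw [mem_map_equiv, mem_centralizer_singleton_iff, mem_centralizer_singleton_iff]
  have h1 : (MulAut.conj g).symm y = g⁻¹ * y * g := by simp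
  rw [h1]
  constructor
  · intro h
    calc g⁻¹ * y * g * x = g⁻¹ * (y * (g * x * g⁻¹)) * g := by group
      _ = g⁻¹ * (g * x * g⁻¹ * y) * g := by rw [h]
      _ = x * (g⁻¹ * y * g) := by group
  · intro h
    calc y * (g * x * g⁻¹) = g * (g⁻¹ * y * g * x) * g⁻¹ := by group
      _ = g * (x * (g⁻¹ * y * g)) * g⁻¹ := by rw [h]
      _ = g * x * g⁻¹ * y := by group

/-- the centralizers of two elements of order 3 are conjugate -/
theorem centralizer_eq (h9 : ¬ 9 ∣ Nat.card G) {x y : G} (hx : orderOf x = 3) (hy : orderOf y = 3) :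
    ∃ g : G, centralizer ({y} : Set G) = (centralizer ({x} : Set G)).map (MulAut.conj g).toMonoidHom := by
  obtain ⟨g, hg⟩ := exists_conj h9 hx hy
  exact ⟨g, by rw [← centralizer_zpowers y, ← hg, centralizer_zpowers, centralizer_conj]⟩

theorem card_centralizer (h9 : ¬ 9 ∣ Nat.card G) {x y : G} (hx : orderOf x = 3) (hy : orderOf y = 3) :
    Nat.card (centralizer ({y} : Set G)) = Nat.card (centralizer ({x} : Set G)) := by
  obtain ⟨g, hg⟩ := centralizer_eq h9 hx hy
  rw [hg]
  exact Nat.card_congr ((centralizer ({x} : Set G)).equivMapOfInjective _ (MulAut.conj g).injective).toEquiv.symm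

theorem pow_centralizer (h9 : ¬ 9 ∣ Nat.card G) {x y : G} (hx : orderOf x = 3) (hy : orderOf y = 3) {n : ℕ}
    (hn : ∀ a ∈ centralizer ({x} : Set G), a ^ n = 1) {a : G} (ha : a ∈ centralizer ({y} : Set G)) : a ^ n = 1 := by
  obtain ⟨g, hg⟩ := centralizer_eq h9 hx hy
  rw [hg] at ha
  obtain ⟨b, hb, rfl⟩ := ha
  rw [← map_pow, hn b hb, map_one]

/-- if `9 ∤ |C(x)|` for an element `x` of order 3, then `9 ∤ |G|` -/
theorem not_nine {x : G} (hx : orderOf x = 3) (h : ¬ 9 ∣ Nat.card (centralizer ({x} : Set G))) : ¬ 9 ∣ Nat.card G := by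
  intro h9
  obtain ⟨K, hK, hxK⟩ := Sylow.exists_subgroup_card_pow_succ (p := 3) (n := 1) (G := G) (by simpa using h9)
    (H := zpowers x) (by rw [Nat.card_zpowers, hx, pow_one])
  have hK' : Nat.card K = 3 ^ 2 := hK
  have hcomm : ∀ a b : K, a * b = b * a := IsPGroup.commutative_of_card_eq_prime_sq hK'
  apply h
  have hle : K ≤ centralizer ({x} : Set G) := by
    intro a ha
    rw [mem_centralizer_singleton_iff]
    exact congrArg Subtype.val (hcomm ⟨a, ha⟩ ⟨x, hxK (mem_zpowers x)⟩)
  have := card_dvd_of_le hle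
  rw [hK'] at this
  exact this

end Cfsg.Agent.H435.Three
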